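import Cfsg.Agent.Lib.CoprimeBase.Small.Checker

/-! Certificate data. -/

set_option autoImplicit false
set_option maxRecDepth 20000

namespace Cfsg.Agent.CoprimeBase.Small

/-- The certificate for `p = 3`, `n = 1`, plus type. -/
def c31p : Cert where
  p := 3
  n := 1
  minus := false
  x := 0x11
  y := 0x1
  bas := [1, 2]
  words := [0, 2]
  inv := [0x12, 0x11]
  table := 0x3c0d0cc35

theorem c31p_table : c31p.tableOK = true := by decide +kernel
theorem c31p_pauli : c31p.pauliOK = true := by decide +kernel
theorem c31p_span : c31p.spanOK = true := by decide +kernel
theorem c31p_bas : c31p.basOK = true := by decide +kernel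
theorem c31p_search : c31p.search = true := by decide +kernel

/-- The certificate for `p = 3`, `n = 1`, minus type. -/
def c31m : Cert where
  p := 3
  n := 1
  minus := true
  x := 0x11
  y := 0x1
  bas := [1, 2]
  words := [0, 1]
  inv := [0x12, 0x11]
  table := 0x70290d40f

theorem c31m_table : c31m.tableOK = true := by decide +kernel
theorem c31m_pauli : c31m.pauliOK = true := by decide +kernel
theorem c31m_span : c31m.spanOK = true := by decide +kernel
theorem c31m_bas : c31m.basOK = true := by decide +kernel
theorem c31m_search : c31m.search = true := by decide +kernel

/-- The certificate for `p = 5`, `n = 1`, plus type. -/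
def c51p : Cert where
  p := 5
  n := 1
  minus := false
  x := 0x19
  y := 0x12
  bas := [1, 2]
  words := [0, 1]
  inv := [0xb, 0x19]
  table := 0xb4d73681f

theorem c51p_table : c51p.tableOK = true := by decide +kernel
theorem c51p_pauli : c51p.pauliOK = true := by decide +kernel
theorem c51p_span : c51p.spanOK = true := by decide +kernel
theorem c51p_bas : c51p.basOK = true := by decide +kernel
theorem c51p_search : c51p.search = true := by decide +kernel

end Cfsg.Agent.CoprimeBase.Small
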