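import Cfsg.Agent.Lib.CoprimeBase.Small.Checker

/-! Certificate data. -/

set_option autoImplicit false
set_option maxRecDepth 20000

namespace Cfsg.Agent.CoprimeBase.Small

/-- The certificate for `p = 3`, `n = 2`, plus type. -/
def c32p : Cert where
  p := 3
  n := 2
  minus := false
  x := 0x409
  y := 0x8a
  bas := [1, 2, 4, 8]
  words := [0, 1, 2, 4]
  inv := [0x402, 0x448, 0x242, 0x249]
  table := 0xd40f0002903c000a41c0001c03c35070290d400

theorem c32p_table : c32p.tableOK = true := by decide +kernel
theorem c32p_pauli : c32p.pauliOK = true := by decide +kernel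
theorem c32p_span : c32p.spanOK = true := by decide +kernel
theorem c32p_bas : c32p.basOK = true := by decide +kernel
theorem c32p_search : c32p.search = true := by decide +kernel

/-- The certificate for `p = 3`, `n = 2`, minus type. -/
def c32m : Cert where
  p := 3
  n := 2
  minus := true
  x := 0x49
  y := 0x212
  bas := [1, 2, 4, 9]
  words := [0, 1, 2, 3]
  inv := [0x282, 0x490, 0x8a, 0x412]
  table := 0x3c0f06c0103c340a00f09c0d03833074000300f

theorem c32m_table : c32m.tableOK = true := by decide +kernel
theorem c32m_pauli : c32m.pauliOK = true := by decide +kernel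
theorem c32m_span : c32m.spanOK = true := by decide +kernel
theorem c32m_bas : c32m.basOK = true := by decide +kernel
theorem c32m_search : c32m.search = true := by decide +kernel

/-- The certificate for `p = 5`, `n = 2`, plus type. -/
def c52p : Cert where
  p := 5
  n := 2
  minus := false
  x := 0x63
  y := 0x64c
  bas := [1, 2, 4, 8]
  words := [0, 1, 2, 4]
  inv := [0x448, 0x602, 0x493, 0x654]
  table := 0x2e82d0b49f0b42d3e0800b47f0009e364f9360bb

theorem c52p_table : c52p.tableOK = true := by decide +kernel
theorem c52p_pauli : c52p.pauliOK = true := by decide +kernel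
theorem c52p_span : c52p.spanOK = true := by decide +kernel
theorem c52p_bas : c52p.basOK = true := by decide +kernel
theorem c52p_search : c52p.search = true := by decide +kernel

end Cfsg.Agent.CoprimeBase.Small
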