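import Cfsg.Agent.Lib.CoprimeBase.Small.Checker

/-! Certificate data. -/

set_option autoImplicit false
set_option maxRecDepth 20000

namespace Cfsg.Agent.CoprimeBase.Small

/-- The certificate for `p = 3`, `n = 3`, plus type. -/
def c33p : Cert where
  p := 3
  n := 3
  minus := false
  x := 0x202241
  y := 0x9289
  bas := [4, 10, 21, 1, 2, 32]
  words := [0, 1, 2, 4, 8, 10, 16, 17]
  inv := [0x50280, 0x210048, 0x42000, 0x202410, 0x90281, 0x410050, 0x82200, 0x40220a]
  table := 0x3506c0f0700f0003306c3303c000000f0d4290d4000cc0003c1c03c1b03c000000f0cc1b0a4350040f03c0c0380003c0c03c0f0a02903c0f06c1c03c1d03c270003403c27030270a40d030270701b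

theorem c33p_table : c33p.tableOK = true := by decide +kernel
theorem c33p_pauli : c33p.pauliOK = true := by decide +kernel
theorem c33p_span : c33p.spanOK = true := by decide +kernel
theorem c33p_bas : c33p.basOK = true := by decide +kernel
theorem c33p_search : c33p.search = true := by decide +kernel

/-- The certificate for `p = 3`, `n = 3`, minus type. -/
def c33m : Cert where
  p := 3
  n := 3
  minus := true
  x := 0x8040a
  y := 0x410452
  bas := [1, 5, 9, 10, 17, 33]
  words := [0, 1, 2, 3, 4, 5, 16, 17]
  inv := [0x480012, 0x440011, 0x48a200, 0x452080, 0x24844a, 0x282252, 0x249041, 0x28a208]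
  table := 0x38290000f0000f0382909c0f000290002909c0f03c0f03c0f0a0010a00103c1b03c1b0d00f0d00f03c0f0701c03c0f0701c0001d030000001d03000004350d01d06c0c0a0350d40f0380f0d40009c0f

theorem c33m_table : c33m.tableOK = true := by decide +kernel
theorem c33m_pauli : c33m.pauliOK = true := by decide +kernel
theorem c33m_span : c33m.spanOK = true := by decide +kernel
theorem c33m_bas : c33m.basOK = true := by decide +kernel
theorem c33m_search : c33m.search = true := by decide +kernel

/-- The certificate for `p = 5`, `n = 3`, plus type. -/
def c53p : Cert where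
  p := 5
  n := 3
  minus := false
  x := 0x25a808
  y := 0x42169a
  bas := [2, 3, 4, 8, 16, 33]
  words := [0, 1, 2, 3, 4, 5, 6, 8]
  inv := [0x7122da, 0x688410, 0x411420, 0x50b521, 0x60071a, 0x644459, 0x4008a4, 0x501859]
  table := 0xf92002d2002d0b4213d89e0b42d000000049e2042d2702d0b49f0b4f80b4000b42d078d72e8b92ec000b47e3e02d0b4220b42d36cd90b42d07cda0b4f7000bc0b4220b49d2e49b3d47d080bd2f0d8

theorem c53p_table : c53p.tableOK = true := by decide +kernel
theorem c53p_pauli : c53p.pauliOK = true := by decide +kernel
theorem c53p_span : c53p.spanOK = true := by decide +kernel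
theorem c53p_bas : c53p.basOK = true := by decide +kernel
theorem c53p_search : c53p.search = true := by decide +kernel

end Cfsg.Agent.CoprimeBase.Small
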