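import Cfsg.Agent.Lib.CoprimeBase.Small.Spec
import Cfsg.Agent.Lib.CoprimeBase.Small.Data1
import Cfsg.Agent.Lib.CoprimeBase.Small.Data2
import Cfsg.Agent.Lib.CoprimeBase.Small.Data3
import Cfsg.Agent.Lib.CoprimeBase.Small.Data4
import Cfsg.Agent.Lib.CoprimeBase.Small.Data53m
import Cfsg.Agent.Lib.CoprimeBase.Small.Data53p
import Cfsg.Agent.Lib.CoprimeBase.Small.Data55p

/-! All the certificates are valid. -/

set_option autoImplicit false

namespace Cfsg.Agent.CoprimeBase.Small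

theorem c31p_valid : c31p.Valid :=
  ⟨c31p_table, c31p_pauli, c31p_span, c31p_bas, c31p_search, by decide +kernel⟩

theorem c31m_valid : c31m.Valid :=
  ⟨c31m_table, c31m_pauli, c31m_span, c31m_bas, c31m_search, by decide +kernel⟩

theorem c51p_valid : c51p.Valid :=
  ⟨c51p_table, c51p_pauli, c51p_span, c51p_bas, c51p_search, by decide +kernel⟩

theorem c32p_valid : c32p.Valid :=
  ⟨c32p_table, c32p_pauli, c32p_span, c32p_bas, c32p_search, by decide +kernel⟩

theorem c32m_valid : c32m.Valid :=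
  ⟨c32m_table, c32m_pauli, c32m_span, c32m_bas, c32m_search, by decide +kernel⟩

theorem c52p_valid : c52p.Valid :=
  ⟨c52p_table, c52p_pauli, c52p_span, c52p_bas, c52p_search, by decide +kernel⟩

theorem c33p_valid : c33p.Valid :=
  ⟨c33p_table, c33p_pauli, c33p_span, c33p_bas, c33p_search, by decide +kernel⟩

theorem c33m_valid : c33m.Valid :=
  ⟨c33m_table, c33m_pauli, c33m_span, c33m_bas, c33m_search, by decide +kernel⟩

theorem c53p_valid : c53p.Valid :=
  ⟨c53p_table, c53p_pauli, c53p_span, c53p_bas, c53p_search, by decide +kernel⟩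

theorem c34p_valid : c34p.Valid :=
  ⟨c34p_table, c34p_pauli, c34p_span, c34p_bas, c34p_search, by decide +kernel⟩

theorem c34m_valid : c34m.Valid :=
  ⟨c34m_table, c34m_pauli, c34m_span, c34m_bas, c34m_search, by decide +kernel⟩

theorem c54p_valid : c54p.Valid :=
  ⟨c54p_table, c54p_pauli, c54p_span, c54p_bas, c54p_search, by decide +kernel⟩

theorem c35m_valid : c35m.Valid :=
  ⟨c35m_table, c35m_pauli, c35m_span, c35m_bas, c35m_search, by decide +kernel⟩

theorem c35p_valid : c35p.Valid :=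
  ⟨c35p_table, c35p_pauli, c35p_span, c35p_bas, c35p_search, by decide +kernel⟩

theorem c55p_valid : c55p.Valid :=
  ⟨c55p_table, c55p_pauli, c55p_span, c55p_bas, c55p_search, by decide +kernel⟩

/-- A certificate for each small case. -/
theorem exists_cert {p n : ℕ} (minus : Bool) (hn : 1 ≤ n) (hn5 : n ≤ 5)
    (hp : p = 3 ∨ p = 5 ∧ minus = false) :
    ∃ c : Cert, c.p = p ∧ c.n = n ∧ c.minus = minus ∧ c.Valid := by
  rcases hp with rfl | ⟨rfl, rfl⟩ <;> interval_cases n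
  · cases minus
    exacts [⟨c31p, rfl, rfl, rfl, c31p_valid⟩, ⟨c31m, rfl, rfl, rfl, c31m_valid⟩]
  · cases minus
    exacts [⟨c32p, rfl, rfl, rfl, c32p_valid⟩, ⟨c32m, rfl, rfl, rfl, c32m_valid⟩]
  · cases minus
    exacts [⟨c33p, rfl, rfl, rfl, c33p_valid⟩, ⟨c33m, rfl, rfl, rfl, c33m_valid⟩]
  · cases minus
    exacts [⟨c34p, rfl, rfl, rfl, c34p_valid⟩, ⟨c34m, rfl, rfl, rfl, c34m_valid⟩]
  · cases minus
    exacts [⟨c35p, rfl, rfl, rfl, c35p_valid⟩, ⟨c35m, rfl, rfl, rfl, c35m_valid⟩]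
  · exact ⟨c51p, rfl, rfl, rfl, c51p_valid⟩
  · exact ⟨c52p, rfl, rfl, rfl, c52p_valid⟩
  · exact ⟨c53p, rfl, rfl, rfl, c53p_valid⟩
  · exact ⟨c54p, rfl, rfl, rfl, c54p_valid⟩
  · exact ⟨c55p, rfl, rfl, rfl, c55p_valid⟩

end Cfsg.Agent.CoprimeBase.Small
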