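import Cfsg.Agent.Lib.CoprimeBase.Small.Classify
import Mathlib.LinearAlgebra.Pi
import Mathlib.Tactic.Module
import Mathlib.Tactic.LinearCombination
import Mathlib.Tactic.FieldSimp
import Mathlib.Tactic.IntervalCases

/-!
# The model module inside a module with Pauli generators

* `Gens`: operators satisfying the relations of the unit words.
* `exists_embedding`: a linear injection of the model carrying the operators of the unit words to
  the given operators.
-/

set_option autoImplicit false

namespace Cfsg.Agent.CoprimeBase.Small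

universe v

variable {F : Type} [Field F] {V : Type v} [AddCommGroup V] [Module F V]

/-- The squares of the generators. -/
def sqv (F : Type) [Field F] (minus : Bool) (n i : ℕ) : F :=
  if minus = true ∧ (i = 0 ∨ i = n) then -1 else 1

/-- The relations of the unit words. -/
structure Gens (minus : Bool) (n : ℕ) (E : ℕ → Module.End F V) : Prop where
  two : (2 : F) ≠ 0
  le : n ≤ 6
  three : minus = true → (3 : F) = 0 ∧ 1 ≤ n
  nonsq : minus = true → ∀ a : F, a ^ 2 ≠ -1
  sq : ∀ i < 2 * n, ∀ x, E i (E i x) = sqv F minus n i • x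
  comm : ∀ i < 2 * n, ∀ j < 2 * n, i + n ≠ j → j + n ≠ i → ∀ x, E i (E j x) = E j (E i x)
  anti : ∀ i < n, ∀ x, E i (E (n + i) x) = -E (n + i) (E i x)

variable {minus : Bool} {n : ℕ} {E : ℕ → Module.End F V}

theorem eq_neg_self (h2 : (2 : F) ≠ 0) {x : V} (h : x = -x) : x = 0 := by
  have h' : (2 : F) • x = 0 := by rw [two_smul]; conv_lhs => arg 1; rw [h]
                                  exact neg_add_cancel x
  exact (smul_eq_zero.1 h').resolve_left h2

/-- The operator with a common fixed vector. -/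
def dop (minus : Bool) (n : ℕ) (E : ℕ → Module.End F V) (j : ℕ) : Module.End F V :=
  if minus = true ∧ j = 0 then E n - E 0 else E (n + j)

/-- An operator anticommuting with one of them. -/
def rop (minus : Bool) (n : ℕ) (E : ℕ → Module.End F V) (j : ℕ) : Module.End F V :=
  if minus = true ∧ j = 0 then E 0 * E n else E j

theorem Gens.three_smul (h : Gens minus n E) (hm : minus = true) (x : V) : (3 : F) • x = 0 := by
  rw [(h.three hm).1, zero_smul]

theorem Gens.sq_zero (h : Gens minus n E) (hm : minus = true) (x : V) : E 0 (E 0 x) = -x := by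
  rw [h.sq 0 (by have := (h.three hm).2; omega), sqv, if_pos ⟨hm, Or.inl rfl⟩, neg_one_smul]

theorem Gens.sq_n (h : Gens minus n E) (hm : minus = true) (x : V) : E n (E n x) = -x := by
  rw [h.sq n (by have := (h.three hm).2; omega), sqv, if_pos ⟨hm, Or.inr rfl⟩, neg_one_smul]

theorem Gens.anti_zero (h : Gens minus n E) (hm : minus = true) (x : V) :
    E 0 (E n x) = -E n (E 0 x) := h.anti 0 (h.three hm).2 x

theorem Gens.sq_other (h : Gens minus n E) {i : ℕ} (hi : i < 2 * n)
    (hne : ¬(minus = true ∧ (i = 0 ∨ i = n))) (x : V) : E i (E i x) = x := by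
  rw [h.sq i hi, sqv, if_neg hne, one_smul]

theorem Gens.dop_sq (h : Gens minus n E) {j : ℕ} (hj : j < n) (x : V) :
    dop minus n E j (dop minus n E j x) = x := by
  unfold dop
  split_ifs with hm
  · simp only [LinearMap.sub_apply, map_sub, h.sq_zero hm.1, h.sq_n hm.1, h.anti_zero hm.1]
    have e := h.three_smul hm.1 x
    rw [show (-x - -E n (E 0 x) - (E n (E 0 x) - -x)) = -((2 : F) • x) by module]
    rw [show -((2 : F) • x) = x - (3 : F) • x by module, e, sub_zero]
  · exact h.sq_other (by omega) (fun h' => hm ⟨h'.1, by omega⟩) x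

theorem Gens.dop_rop_self (h : Gens minus n E) {j : ℕ} (hj : j < n) (x : V) :
    dop minus n E j (rop minus n E j x) = -rop minus n E j (dop minus n E j x) := by
  unfold dop rop
  split_ifs with hm
  · simp only [LinearMap.sub_apply, Module.End.mul_apply, map_sub, h.sq_zero hm.1, h.sq_n hm.1]
    rw [show E n (E 0 (E n x)) = E 0 x by
        rw [← neg_neg (E n (E 0 (E n x))), ← h.anti_zero hm.1, h.sq_n hm.1, map_neg, neg_neg],
      show E 0 (E n (E 0 x)) = E n x by
        rw [h.anti_zero hm.1 (E 0 x), h.sq_zero hm.1, map_neg, neg_neg], map_neg]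
    module
  · rw [h.anti j hj, neg_neg]

theorem Gens.dop_rop (h : Gens minus n E) {i j : ℕ} (hi : i < n) (hj : j < n) (hij : i ≠ j) (x : V) :
    dop minus n E i (rop minus n E j x) = rop minus n E j (dop minus n E i x) := by
  unfold dop rop
  split_ifs with hm hm' hm'
  · exact absurd (hm.2.trans hm'.2.symm) hij
  · have hi0 := hm.2
    simp only [LinearMap.sub_apply, map_sub]
    rw [h.comm n (by omega) j (by omega) (by omega) (by omega),
      h.comm 0 (by omega) j (by omega) (by omega) (by omega)]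
  · have hj0 := hm'.2
    simp only [Module.End.mul_apply]
    rw [h.comm (n + i) (by omega) 0 (by omega) (by omega) (by omega),
      h.comm (n + i) (by omega) n (by omega) (by omega) (by omega)]
  · rw [h.comm (n + i) (by omega) j (by omega) (by omega) (by omega)]

theorem Gens.dop_comm (h : Gens minus n E) {i j : ℕ} (hi : i < n) (hj : j < n) (x : V) :
    dop minus n E i (dop minus n E j x) = dop minus n E j (dop minus n E i x) := by
  rcases eq_or_ne i j with rfl | hij
  · rfl
  unfold dop
  split_ifs with hm hm' hm'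
  · exact absurd (hm.2.trans hm'.2.symm) hij
  · have hi0 := hm.2
    simp only [LinearMap.sub_apply, map_sub]
    rw [h.comm n (by omega) (n + j) (by omega) (by omega) (by omega),
      h.comm 0 (by omega) (n + j) (by omega) (by omega) (by omega)]
  · have hj0 := hm'.2
    simp only [LinearMap.sub_apply, map_sub]
    rw [h.comm (n + i) (by omega) n (by omega) (by omega) (by omega),
      h.comm (n + i) (by omega) 0 (by omega) (by omega) (by omega)]
  · rw [h.comm (n + i) (by omega) (n + j) (by omega) (by omega) (by omega)]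

theorem Gens.exists_fixed [Nontrivial V] (h : Gens minus n E) :
    ∀ k ≤ n, ∃ u : V, u ≠ 0 ∧ ∀ j < k, dop minus n E j u = u := by
  intro k
  induction k with
  | zero =>
    intro _
    obtain ⟨u, hu⟩ := exists_ne (0 : V)
    exact ⟨u, hu, fun j hj => absurd hj (Nat.not_lt_zero j)⟩
  | succ k ih =>
    intro hk
    obtain ⟨u, hu, hfix⟩ := ih (by omega)
    set D := dop minus n E k with hD
    by_cases h0 : u + D u = 0
    · -- flip the eigenvalue
      have hDu : D u = -u := eq_neg_of_add_eq_zero_right h0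
      refine ⟨rop minus n E k u, fun h1 => hu ?_, fun j hj => ?_⟩
      · rw [rop] at h1
        split_ifs at h1 with hm
        · rw [Module.End.mul_apply] at h1
          have h2 := congrArg (E 0) h1
          rw [h.sq_zero hm.1, map_zero, neg_eq_zero] at h2
          have h3 := congrArg (E n) h2
          rwa [h.sq_n hm.1, map_zero, neg_eq_zero] at h3
        · have h2 := congrArg (E k) h1
          rwa [h.sq_other (by omega) (fun h' => hm ⟨h'.1, by omega⟩), map_zero] at h2
      · rcases eq_or_lt_of_le (Nat.lt_succ_iff.1 hj) with rfl | hj'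
        · rw [h.dop_rop_self (by omega), ← hD, hDu, map_neg, neg_neg]
        · rw [h.dop_rop (by omega) (by omega) (by omega), hfix j hj']
    · refine ⟨u + D u, h0, fun j hj => ?_⟩
      rw [map_add]
      rcases eq_or_lt_of_le (Nat.lt_succ_iff.1 hj) with rfl | hj'
      · rw [hD, h.dop_sq (by omega), add_comm]
      · rw [hD, h.dop_comm (by omega) (by omega), hfix j hj']

/-- The images of the points. -/
def phiVec (E : ℕ → Module.End F V) (v0 : V) : ℕ → ℕ → V
  | 0, _ => v0
  | k + 1, z => if z.testBit k then E k (phiVec E v0 k z) else phiVec E v0 k z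

variable {v0 : V}

theorem phiVec_low {k j : ℕ} (hjk : k ≤ j) (z : ℕ) :
    phiVec E v0 k (z ^^^ 2 ^ j) = phiVec E v0 k z := by
  induction k with
  | zero => rfl
  | succ k ih =>
    simp only [phiVec, Nat.testBit_xor, Nat.testBit_two_pow, ih (by omega)]
    rw [show decide (j = k) = false by simp; omega, Bool.xor_false]

theorem phiVec_trans (h : Gens minus n E) : ∀ {k : ℕ}, k ≤ n → ∀ {j : ℕ}, j < k → ∀ z : ℕ,
    E j (phiVec E v0 k z) =
      (if z.testBit j then sqv F minus n j else 1) • phiVec E v0 k (z ^^^ 2 ^ j) := by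
  intro k
  induction k with
  | zero => exact fun _ j hj => absurd hj (Nat.not_lt_zero j)
  | succ k ih =>
    intro hk j hj z
    rcases eq_or_lt_of_le (Nat.lt_succ_iff.1 hj) with rfl | hj'
    · simp only [phiVec, Nat.testBit_xor, Nat.testBit_two_pow, phiVec_low le_rfl, decide_true,
        Bool.xor_true]
      cases z.testBit j <;> simp [h.sq j (by omega)]
    · simp only [phiVec, Nat.testBit_xor, Nat.testBit_two_pow]
      rw [show decide (j = k) = false by simp; omega, Bool.xor_false]
      cases z.testBit k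
      · simpa using ih (by omega) hj' z
      · simp only [if_true]
        rw [h.comm j (by omega) k (by omega) (by omega) (by omega), ih (by omega) hj' z, map_smul]

theorem phiVec_sign (h : Gens minus n E) {j : ℕ} (hj : j < n) (hfix : E (n + j) v0 = v0) :
    ∀ {k : ℕ}, k ≤ n → ∀ z : ℕ,
      E (n + j) (phiVec E v0 k z) =
        (if j < k ∧ z.testBit j = true then (-1 : F) else 1) • phiVec E v0 k z := by
  intro k
  induction k with
  | zero => intro _ z; simpa [phiVec] using hfix
  | succ k ih =>
    intro hk z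
    simp only [phiVec]
    cases hz : z.testBit k
    · simp only [Bool.false_eq_true, if_false]
      rw [ih (by omega) z]
      congr 1
      refine if_congr ?_ rfl rfl
      constructor
      · exact fun h' => ⟨h'.1.trans (Nat.lt_succ_self k), h'.2⟩
      · rintro ⟨h1, h2⟩
        refine ⟨lt_of_le_of_ne (Nat.lt_succ_iff.1 h1) fun e => ?_, h2⟩
        rw [e, hz] at h2; simp at h2
    · simp only [if_true]
      rcases eq_or_ne j k with rfl | hjk
      · have h1 := h.anti j (by omega) (phiVec E v0 j z)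
        rw [ih (by omega) z, if_neg (fun h' => lt_irrefl _ h'.1), one_smul] at h1
        rw [if_pos ⟨Nat.lt_succ_self j, hz⟩, neg_one_smul]
        exact neg_eq_iff_eq_neg.1 h1.symm
      · rw [h.comm (n + j) (by omega) k (by omega) (by omega) (by omega), ih (by omega) z, map_smul]
        congr 1
        refine if_congr ⟨fun h' => ⟨by omega, h'.2⟩, fun h' => ⟨by omega, h'.2⟩⟩ rfl rfl

theorem phiVec_quat (h : Gens minus n E) (hm : minus = true) (hY : E n v0 = v0 + E 0 v0) :
    ∀ {k : ℕ}, 1 ≤ k → k ≤ n → ∀ z : ℕ, E n (phiVec E v0 k z) =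
      (if z.testBit 0 then (-1 : F) else 1) • phiVec E v0 k z + phiVec E v0 k (z ^^^ 1) := by
  intro k
  induction k with
  | zero => omega
  | succ k ih =>
    intro _ hk z
    rcases Nat.eq_zero_or_pos k with rfl | hk0
    · have e : (z ^^^ 1).testBit 0 = !z.testBit 0 := by
        rw [Nat.testBit_xor, show Nat.testBit 1 0 = true from rfl, Bool.xor_true]
      simp only [phiVec, e]
      cases z.testBit 0
      · simpa using hY
      · have h1 : E n (E 0 v0) = v0 - E 0 v0 := by
          rw [← neg_neg (E n (E 0 v0)), ← h.anti_zero hm, hY, map_add, h.sq_zero hm, neg_add, neg_neg]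
          abel
        simp [h1, sub_eq_neg_add]
    · have hne : decide (0 = k) = false := by simp; omega
      have hb : (z ^^^ 1).testBit k = z.testBit k := by
        rw [Nat.testBit_xor, show (1 : ℕ) = 2 ^ 0 from rfl, Nat.testBit_two_pow, hne, Bool.xor_false]
      simp only [phiVec, hb]
      cases z.testBit k
      · simpa using ih hk0 (by omega) z
      · simp only [if_true]
        rw [h.comm n (by omega) k (by omega) (by omega) (by omega), ih hk0 (by omega) z, map_add,
          map_smul]

theorem phiVec_indep (h : Gens minus n E) (hv0 : v0 ≠ 0) (hfix : ∀ j < n, dop minus n E j v0 = v0) :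
    ∀ k ≤ n, (minus = true → 1 ≤ k) → ∀ g : ℕ → F,
      ∑ z ∈ Finset.range (2 ^ k), g z • phiVec E v0 k z = 0 → ∀ z < 2 ^ k, g z = 0 := by
  intro k
  induction k with
  | zero =>
    intro _ _ g hg z hz
    rw [pow_zero, Nat.lt_one_iff] at hz
    subst hz
    simpa [phiVec, hv0] using hg
  | succ k ih =>
    intro hk hmk g hg
    by_cases hb : minus = true ∧ k = 0
    · obtain ⟨hm, rfl⟩ := hb
      have h1 : g 0 • v0 + g 1 • E 0 v0 = 0 := by
        simpa [Finset.sum_range_succ, phiVec] using hg
      have h2 := congrArg (E 0) h1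
      rw [map_add, map_smul, map_smul, h.sq_zero hm, map_zero] at h2
      have h3 : (g 0 * g 0 + g 1 * g 1) • v0 = 0 := by
        rw [show (g 0 * g 0 + g 1 * g 1) • v0 =
          g 0 • (g 0 • v0 + g 1 • E 0 v0) - g 1 • (g 0 • E 0 v0 + g 1 • -v0) by module,
          h1, h2, smul_zero, smul_zero, sub_zero]
      have h4 := (smul_eq_zero.1 h3).resolve_right hv0
      have h5 : g 1 = 0 := by
        by_contra hne
        refine h.nonsq hm (g 0 / g 1) ?_
        field_simp
        linear_combination h4
      have h6 : g 0 = 0 := by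
        rw [h5, mul_zero, add_zero, mul_self_eq_zero] at h4
        exact h4
      intro z hz
      rw [pow_succ, pow_zero, one_mul] at hz
      interval_cases z <;> assumption
    have hmk' : minus = true → 1 ≤ k := fun hm => by
      rcases Nat.eq_zero_or_pos k with rfl | hk0
      · exact absurd ⟨hm, rfl⟩ hb
      · exact hk0
    have hdk : dop minus n E k = E (n + k) := if_neg hb
    have hfk : E (n + k) v0 = v0 := hdk ▸ hfix k (by omega)
    rw [pow_succ, mul_two, Finset.sum_range_add] at hg
    set S0 := ∑ z ∈ Finset.range (2 ^ k), g z • phiVec E v0 k z with hS0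
    set S1 := ∑ z ∈ Finset.range (2 ^ k), g (2 ^ k + z) • phiVec E v0 k z with hS1
    have hlow : ∀ z < 2 ^ k, phiVec E v0 (k + 1) z = phiVec E v0 k z := fun z hz => by
      simp [phiVec, Nat.testBit_lt_two_pow hz]
    have hhigh : ∀ z < 2 ^ k, phiVec E v0 (k + 1) (2 ^ k + z) = E k (phiVec E v0 k z) := fun z hz => by
      have e : 2 ^ k + z = z ^^^ 2 ^ k := by
        refine Nat.eq_of_testBit_eq fun i => ?_
        rcases lt_trichotomy i k with hi | hi | hi
        · rw [Nat.testBit_two_pow_add_gt hi, Nat.testBit_xor, Nat.testBit_two_pow,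
            decide_eq_false (by omega), Bool.xor_false]
        · subst hi
          rw [Nat.testBit_two_pow_add_eq, Nat.testBit_xor, Nat.testBit_two_pow,
            Nat.testBit_lt_two_pow hz]
          simp
        · have h1 : 2 ^ k + z < 2 ^ i := lt_of_lt_of_le (by rw [pow_succ]; omega)
            (Nat.pow_le_pow_right two_pos hi)
          rw [Nat.testBit_lt_two_pow h1, Nat.testBit_xor, Nat.testBit_two_pow,
            Nat.testBit_lt_two_pow (by omega)]
          simp; omega
      rw [e]
      simp [phiVec, Nat.testBit_xor, Nat.testBit_two_pow, Nat.testBit_lt_two_pow hz, phiVec_low]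
    have hg' : S0 + E k S1 = 0 := by
      rw [← hg, hS1, map_sum, hS0]
      congr 1
      · exact Finset.sum_congr rfl fun z hz => by rw [hlow z (Finset.mem_range.1 hz)]
      · exact Finset.sum_congr rfl fun z hz => by rw [hhigh z (Finset.mem_range.1 hz), map_smul]
    have hD : ∀ g' : ℕ → F, E (n + k) (∑ z ∈ Finset.range (2 ^ k), g' z • phiVec E v0 k z) =
        ∑ z ∈ Finset.range (2 ^ k), g' z • phiVec E v0 k z := fun g' => by
      rw [map_sum]
      refine Finset.sum_congr rfl fun z _ => ?_
      rw [map_smul, phiVec_sign h (by omega) hfk (by omega) z, if_neg (fun h' => lt_irrefl k h'.1),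
        one_smul]
    have hg'' : S0 - E k S1 = 0 := by
      have h1 := congrArg (E (n + k)) hg'
      rw [map_add, map_zero, hS0, hD, ← hS0] at h1
      have h2 := h.anti k (by omega) S1
      rw [hS1, hD, ← hS1] at h2
      rw [(neg_eq_iff_eq_neg.2 h2).symm, ← sub_eq_add_neg] at h1
      exact h1
    have hz0 : S0 = 0 := eq_neg_self h.two (by
      rw [eq_neg_iff_add_eq_zero]
      calc S0 + S0 = (S0 + E k S1) + (S0 - E k S1) := by abel
        _ = 0 := by rw [hg', hg'', add_zero])
    have hz1 : S1 = 0 := by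
      rw [hz0, zero_add] at hg'
      have h1 := congrArg (E k) hg'
      rwa [h.sq_other (by omega) (fun h' => hb ⟨h'.1, by omega⟩), map_zero] at h1
    intro z hz
    rcases lt_or_ge z (2 ^ k) with hlt | hge
    · exact ih (by omega) hmk' g hz0 z hlt
    · have := ih (by omega) hmk' (fun z => g (2 ^ k + z)) hz1 (z - 2 ^ k)
        (by rw [pow_succ] at hz; omega)
      rwa [show 2 ^ k + (z - 2 ^ k) = z by omega] at this

theorem sum_range_xor {M : Type v} [AddCommMonoid M] (G : ℕ → M) {k a : ℕ} (ha : a < 2 ^ k) :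
    ∑ i ∈ Finset.range (2 ^ k), G (i ^^^ a) = ∑ i ∈ Finset.range (2 ^ k), G i := by
  refine Finset.sum_nbij' (· ^^^ a) (· ^^^ a) (fun i hi => ?_) (fun i hi => ?_) (fun i _ => ?_)
    (fun i _ => ?_) fun i _ => rfl
  · simp only [Finset.mem_range] at hi ⊢
    exact Nat.xor_lt_two_pow hi ha
  · simp only [Finset.mem_range] at hi ⊢
    exact Nat.xor_lt_two_pow hi ha
  · simp [Nat.xor_assoc]
  · simp [Nat.xor_assoc]

theorem op_sign (h6 : n ≤ 6) (h : minus = true → 1 ≤ n) {j : ℕ} (hj : j < n)
    (hne : ¬(minus = true ∧ j = 0)) (f : Fin (2 ^ n) → F) (z : Fin (2 ^ n)) :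
    op minus (2 ^ (n + j)) f z = (if (z : ℕ).testBit j then (-1 : F) else 1) * f z := by
  have e1 : 2 ^ (n + j) &&& (2 ^ n - 1) = 0 := by
    rw [Nat.and_two_pow_sub_one_eq_mod, pow_add]; simp
  have e2 : 2 ^ (n + j) >>> n = 2 ^ j := by
    rw [Nat.shiftRight_eq_div_pow, pow_add, Nat.mul_div_cancel_left _ (Nat.two_pow_pos n)]
  rw [op_apply]
  cases minus with
  | false => simp only [opFun, Bool.false_eq_true, if_false, e1, e2, Nat.xor_zero, ext_lt,
      ps_two_pow_and h6 hj]
  | true =>
    obtain ⟨j, rfl⟩ := Nat.exists_eq_succ_of_ne_zero (fun e => hne ⟨rfl, e⟩)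
    simp only [opFun, if_true, e1, e2, Nat.zero_shiftRight, Nat.xor_zero, quat, Nat.zero_and,
      zero_ne_one, if_false]
    have e3 : 2 ^ (j + 1) &&& 1 = 0 := by rw [Nat.and_one_is_mod, pow_succ]; omega
    have e4 : (2 ^ (j + 1)) >>> 1 = 2 ^ j := by rw [Nat.shiftRight_eq_div_pow, pow_succ]; omega
    have e5 : ((z : ℕ) >>> 1).testBit j = (z : ℕ).testBit (j + 1) := by
      rw [Nat.testBit_shiftRight, add_comm]
    simp only [e3, e4, zero_ne_one, if_false]
    rw [ps_two_pow_and (n := n) h6 (by omega), e5, ← ext_lt (f := f) z]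
    congr 1
    rcases and_one_cases (z : ℕ) with hz | hz <;> simp only [hz, zero_ne_one, if_false, if_true] <;>
      congr 1 <;> rw [Nat.and_one_is_mod] at hz <;> rw [Nat.shiftRight_eq_div_pow] <;> omega

theorem xor_two_pow_parts (z j : ℕ) :
    2 * (z >>> 1 ^^^ (2 ^ j) >>> 1) + ((z &&& 1) ^^^ (2 ^ j &&& 1)) = z ^^^ 2 ^ j := by
  rw [← shr_xor, ← xor_and_one, Nat.and_one_is_mod, Nat.shiftRight_eq_div_pow]
  omega

theorem xor_one_parts (z : ℕ) :
    (z &&& 1 = 0 → z ^^^ 1 = 2 * (z >>> 1) + 1) ∧ (z &&& 1 = 1 → z ^^^ 1 = 2 * (z >>> 1)) := by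
  have h := xor_two_pow_parts z 0
  rw [pow_zero, show (1 : ℕ) >>> 1 = 0 from rfl, Nat.xor_zero] at h
  constructor <;> intro e <;> rw [e] at h <;> simpa using h.symm

theorem op_trans (h6 : n ≤ 6) (h : minus = true → 1 ≤ n) {j : ℕ} (hj : j < n)
    (f : Fin (2 ^ n) → F) (z : Fin (2 ^ n)) : op minus (2 ^ j) f z =
      (if ((z : ℕ) ^^^ 2 ^ j).testBit j then sqv F minus n j else 1) * ext f ((z : ℕ) ^^^ 2 ^ j) := by
  have e1 : 2 ^ j &&& (2 ^ n - 1) = 2 ^ j := by
    rw [Nat.and_two_pow_sub_one_eq_mod, Nat.mod_eq_of_lt (Nat.pow_lt_pow_right one_lt_two hj)]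
  have e2 : 2 ^ j >>> n = 0 := by
    rw [Nat.shiftRight_eq_div_pow, Nat.div_eq_of_lt (Nat.pow_lt_pow_right one_lt_two hj)]
  rw [op_apply]
  cases minus with
  | false => simp [opFun, e1, e2, ps_zero, sqv]
  | true =>
    simp only [opFun, if_true, e1, e2, Nat.zero_shiftRight, Nat.zero_and, ps_zero, one_mul, quat,
      zero_ne_one, if_false]
    have hp := xor_two_pow_parts (z : ℕ) j
    have hbit : ((z : ℕ) ^^^ 2 ^ j).testBit j = !(z : ℕ).testBit j := by simp [Nat.testBit_xor]
    rw [hbit]
    rcases Nat.eq_zero_or_pos j with rfl | hj0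
    · have hz : (z : ℕ).testBit 0 = decide ((z : ℕ) &&& 1 = 1) := by
        rw [Nat.testBit_eq_decide_div_mod_eq, Nat.and_one_is_mod, pow_zero, Nat.div_one]
      rw [hz]
      rcases and_one_cases (z : ℕ) with e | e
      · simp [sqv, e, (xor_one_parts _).1 e]
      · simp [sqv, e, (xor_one_parts _).2 e]
    · have e3 : 2 ^ j &&& 1 = 0 := by
        rw [Nat.and_one_is_mod, show j = j - 1 + 1 by omega, pow_succ]; omega
      rw [e3, Nat.xor_zero] at hp
      have hs : sqv F true n j = 1 := if_neg (by omega)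
      simp only [e3, zero_ne_one, if_false, hs, ite_self, one_mul]
      rcases and_one_cases (z : ℕ) with e | e <;> rw [e] at hp ⊢ <;>
        simp only [zero_ne_one, if_false, if_true] <;> rw [hp]

theorem op_quat (h1 : 1 ≤ n) (f : Fin (2 ^ n) → F) (z : Fin (2 ^ n)) :
    op true (2 ^ n) f z =
      (if (z : ℕ).testBit 0 then (-1 : F) else 1) * f z + ext f ((z : ℕ) ^^^ 1) := by
  have e1 : 2 ^ n &&& (2 ^ n - 1) = 0 := by rw [Nat.and_two_pow_sub_one_eq_mod]; simp
  have e2 : 2 ^ n >>> n = 1 := by rw [Nat.shiftRight_eq_div_pow, Nat.div_self (Nat.two_pow_pos n)]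
  rw [op_apply]
  simp only [opFun, if_true, e1, e2, show (1 : ℕ) >>> 1 = 0 from rfl, Nat.zero_and, ps_zero, one_mul,
    Nat.zero_shiftRight, Nat.xor_zero, quat, zero_ne_one, if_false, show (1 : ℕ) &&& 1 = 1 from rfl,
    if_true, ← ext_lt (f := f) z]
  have hz : (z : ℕ).testBit 0 = decide ((z : ℕ) &&& 1 = 1) := by
    rw [Nat.testBit_eq_decide_div_mod_eq, Nat.and_one_is_mod, pow_zero, Nat.div_one]
  rw [hz]
  rcases and_one_cases (z : ℕ) with e | e
  · have hp := (xor_one_parts _).1 e
    rw [e]
    have e0 : 2 * ((z : ℕ) >>> 1) = z := by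
      rw [Nat.and_one_is_mod] at e; rw [Nat.shiftRight_eq_div_pow]; omega
    simp only [zero_ne_one, if_false, decide_false, Bool.false_eq_true, add_zero, one_mul]
    rw [hp, e0]
  · have hp := (xor_one_parts _).2 e
    rw [e]
    have e0 : 2 * ((z : ℕ) >>> 1) + 1 = z := by
      rw [Nat.and_one_is_mod] at e; rw [Nat.shiftRight_eq_div_pow]; omega
    simp only [if_true, decide_true, add_zero, e0]
    rw [hp]
    ring

/-- The embedding. -/
theorem exists_embedding [Nontrivial V] (h : Gens minus n E) :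
    ∃ φ : (Fin (2 ^ n) → F) →ₗ[F] V, Function.Injective φ ∧
      ∀ i < 2 * n, ∀ f, E i (φ f) = φ (op minus (2 ^ i) f) := by
  obtain ⟨v0, hv0, hfix⟩ := h.exists_fixed n le_rfl
  set Φ := phiVec E v0 n with hΦ
  let φ : (Fin (2 ^ n) → F) →ₗ[F] V :=
    { toFun := fun f => ∑ z ∈ Finset.range (2 ^ n), ext f z • Φ z
      map_add' := fun f g => by simp [ext_add, add_smul, Finset.sum_add_distrib]
      map_smul' := fun r f => by simp [ext_smul, mul_smul, Finset.smul_sum] }
  have hφ : ∀ f, φ f = ∑ z ∈ Finset.range (2 ^ n), ext f z • Φ z := fun f => rfl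
  have hm1 : minus = true → 1 ≤ n := fun hm => (h.three hm).2
  refine ⟨φ, fun f g hfg => ?_, fun i hi f => ?_⟩
  · have h0 : φ (f - g) = 0 := by rw [map_sub, hfg, sub_self]
    rw [hφ] at h0
    funext z
    have := phiVec_indep h hv0 hfix n le_rfl hm1 _ h0 z z.2
    rwa [ext_lt, Pi.sub_apply, sub_eq_zero] at this
  rw [hφ, hφ, map_sum]
  simp only [map_smul]
  rcases lt_or_ge i n with hin | hin
  · rw [← sum_range_xor (fun z => ext f z • E i (Φ z))
      (Nat.pow_lt_pow_right one_lt_two hin : 2 ^ i < 2 ^ n)]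
    refine Finset.sum_congr rfl fun z hz => ?_
    rw [ext_lt (f := op minus (2 ^ i) f) ⟨z, Finset.mem_range.1 hz⟩,
      op_trans h.le hm1 hin f ⟨z, Finset.mem_range.1 hz⟩]
    simp only [hΦ, phiVec_trans h le_rfl hin, smul_smul, Nat.xor_assoc, Nat.xor_self, Nat.xor_zero]
    rw [mul_comm]
  obtain ⟨j, hjn, rfl⟩ : ∃ j, j < n ∧ i = n + j := ⟨i - n, by omega, by omega⟩
  by_cases hb : minus = true ∧ j = 0
  · obtain ⟨hm, rfl⟩ := hb
    have hY : E n v0 = v0 + E 0 v0 := by
      have := hfix 0 hjn
      rw [dop, if_pos ⟨hm, rfl⟩, LinearMap.sub_apply, sub_eq_iff_eq_add] at this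
      exact this
    subst hm
    simp only [add_zero, hΦ, phiVec_quat h rfl hY (hm1 rfl) le_rfl, smul_add, smul_smul,
      Finset.sum_add_distrib]
    rw [← sum_range_xor (fun z => ext f z • phiVec E v0 n (z ^^^ 1))
      (Nat.one_lt_two_pow (by have := hm1 rfl; omega) : 1 < 2 ^ n), ← Finset.sum_add_distrib]
    refine Finset.sum_congr rfl fun z hz => ?_
    have hz' := Finset.mem_range.1 hz
    rw [Nat.xor_assoc, Nat.xor_self, Nat.xor_zero, ← add_smul,
      ext_lt (f := op true (2 ^ n) f) ⟨z, hz'⟩, op_quat (hm1 rfl) f ⟨z, hz'⟩,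
      ← ext_lt (f := f) ⟨z, hz'⟩, mul_comm]
  · have hf : E (n + j) v0 = v0 := by
      have := hfix j hjn
      rwa [dop, if_neg hb] at this
    refine Finset.sum_congr rfl fun z hz => ?_
    have hz' := Finset.mem_range.1 hz
    rw [hΦ, phiVec_sign h hjn hf le_rfl, smul_smul,
      ext_lt (f := op minus (2 ^ (n + j)) f) ⟨z, hz'⟩, op_sign h.le hm1 hjn hb f ⟨z, hz'⟩,
      ← ext_lt (f := f) ⟨z, hz'⟩, mul_comm]
    simp [hjn]

end Cfsg.Agent.CoprimeBase.Small
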