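import Cfsg.Agent.Lib.BaseThree.Perp
import Cfsg.Agent.Lib.Solvable.Basic
import Cfsg.Agent.Lib.Coprime.FixedCount
import Mathlib.GroupTheory.PGroup
import Mathlib.Tactic.NormNum.Prime
import Mathlib.Tactic.NormNum.DivMod

/-!
# Involutions of a solvable symplectic group of order prime to three without invariant isotropic
subgroups

* `no_invol`: on a group of order `4 ^ n`, `n = 2, 3`, no involution fixes `2 ^ (n + 1)` points.
-/

set_option autoImplicit false
set_option linter.style.haveILetI false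

namespace Cfsg.Agent.CoprimeBase.Small

open OddBaseTwo BaseThree

universe u v

variable {W : Type u} [CommGroup W] [Finite W] {K : Type v} [Field K] (f : W →* W →* Kˣ)

theorem prime_ne_two_pow {r j : ℕ} (hr : r.Prime) (h : r ∣ 2 ^ j) : r = 2 :=
  (Nat.prime_dvd_prime_iff_eq hr Nat.prime_two).1 (hr.dvd_of_dvd_pow h)

theorem no_invol (halt : ∀ w, f w w = 1) (hnd : ∀ w, (∀ w', f w w' = 1) → w = 1)
    (hexp : ∀ w : W, w ^ 2 = 1) {n : ℕ} (hn : n = 2 ∨ n = 3) (hW : Nat.card W = 4 ^ n)
    (H : Subgroup (MulAut W)) (hsol : Group.IsSolvable H) (h3 : ¬ 3 ∣ Nat.card H)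
    (hpres : ∀ g ∈ H, ∀ a b, f (g a) (g b) = f a b)
    (hiso : ∀ S : Subgroup W, (∀ g ∈ H, ∀ s ∈ S, g s ∈ S) → (∀ a ∈ S, ∀ b ∈ S, f a b = 1) → S = ⊥)
    {t : MulAut W} (ht : t ∈ H) (ht2 : t * t = 1)
    (hfix : Nat.card {w : W // t w = w} = 2 ^ (n + 1)) : False := by
  classical
  haveI := hsol
  haveI : Fact (Nat.Prime 2) := ⟨Nat.prime_two⟩
  haveI : Finite (MulAut W) := Finite.of_injective (fun e : MulAut W => (e : W → W)) DFunLike.coe_injective
  have hn0 : n ≤ 3 := by omega
  have hne : (⊤ : Subgroup H) ≠ ⊥ := by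
    intro h
    have h1 : (⟨t, ht⟩ : H) = 1 := Subgroup.mem_bot.1 (h ▸ Subgroup.mem_top _)
    have h2 : t = 1 := congrArg Subtype.val h1
    have h3 : ∀ w : W, t w = w := fun w => by rw [h2]; rfl
    rw [Nat.card_congr (Equiv.subtypeUnivEquiv h3), hW] at hfix
    rcases hn with rfl | rfl <;> norm_num at hfix
  obtain ⟨N, r, hNn, -, hN1, -, hNc, hr, hNr⟩ :=
    Solvable.exists_abelian_minimal_normal (K := (⊤ : Subgroup H)) inferInstance hne
  haveI := Fact.mk hr
  -- the fixed points of `N`
  let C : Subgroup W :=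
    { carrier := {w | ∀ a ∈ N, (a : MulAut W) w = w}
      one_mem' := fun a _ => map_one _
      mul_mem' := fun {x y} hx hy a ha => by rw [map_mul, hx a ha, hy a ha]
      inv_mem' := fun {x} hx a ha => by rw [map_inv, hx a ha] }
  have hCinv : ∀ g ∈ H, ∀ w ∈ C, g w ∈ C := by
    intro g hg w hw a ha
    have h1 := hw _ (hNn.conj_mem a ha (⟨g, hg⟩ : H)⁻¹)
    rw [inv_inv] at h1
    change (g⁻¹ * (a : MulAut W) * g) w = w at h1
    rw [MulAut.mul_apply, MulAut.mul_apply] at h1
    exact (MulEquiv.symm_apply_eq g).1 h1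
  -- a fixed point of `H` is trivial
  have hnofix : ∀ w : W, (∀ g ∈ H, g w = w) → w = 1 := by
    intro w hw
    have h := hiso (Subgroup.zpowers w) (fun g hg s hs => by
      obtain ⟨k, rfl⟩ := hs
      rw [map_zpow, hw g hg]; exact ⟨k, rfl⟩) (fun a ha b hb => by
      obtain ⟨i, rfl⟩ := ha
      obtain ⟨j, rfl⟩ := hb
      simp [map_zpow, halt])
    exact Subgroup.mem_bot.1 (h ▸ Subgroup.mem_zpowers w)
  have hCnd : ∀ x ∈ C, (∀ y ∈ C, f x y = 1) → x = 1 := by
    intro x hx hxy
    have h := hiso (C ⊓ perp f C) (fun g hg s hs => ⟨hCinv g hg s hs.1, fun y hy => by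
      rw [← (g : MulAut W).apply_symm_apply y, hpres g hg]
      exact hs.2 _ (hCinv g⁻¹ (inv_mem hg) y hy)⟩) (fun a ha b hb => ha.2 b hb.1)
    exact Subgroup.mem_bot.1 (h ▸ (show x ∈ C ⊓ perp f C from ⟨hx, hxy⟩))
  -- fixed points of `r`-subgroups
  have hcount : ∀ T : Subgroup H, IsPGroup r T →
      Nat.card W ≡ Nat.card {w : W | ∀ a : T, ((a : H) : MulAut W) w = w} [MOD r] := by
    intro T hT
    letI : MulAction T W := MulAction.compHom W ((H.subtype).comp T.subtype)
    exact hT.card_modEq_card_fixedPoints W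
  have hCcard : Nat.card W ≡ Nat.card C [MOD r] := by
    refine (hcount N hNr).trans (Nat.modEq_of_dvd (by
      rw [show Nat.card {w : W | ∀ a : N, ((a : H) : MulAut W) w = w} = Nat.card C from
        Nat.card_congr (Equiv.subtypeEquivRight fun w =>
          ⟨fun h a ha => h ⟨a, ha⟩, fun h a => h a a.2⟩)]
      simp))
  -- `r` is odd
  have hr2 : r ≠ 2 := by
    intro hr2
    subst hr2
    have hWnt : Nat.card W ≡ 0 [MOD 2] := by
      rw [hW]; rcases hn with rfl | rfl <;> decide
    have hC1 : C ≠ ⊥ := fun h => by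
      rw [h, Subgroup.card_bot] at hCcard
      exact absurd (hCcard.symm.trans hWnt) (by decide)
    set D := perp f C
    by_cases hD : D = ⊥
    · refine hN1 ((Subgroup.eq_bot_iff_forall _).2 fun a ha => Subtype.ext (MulEquiv.ext fun w => ?_))
      have h := perp_perp f halt hnd C
      have hCtop : C = ⊤ := eq_top_iff.2 fun w _ => h ▸ fun x hx => by
        change x ∈ D at hx
        rw [hD, Subgroup.mem_bot] at hx
        rw [hx, map_one]
      exact (hCtop ▸ Subgroup.mem_top w : w ∈ C) a ha
    · -- a fixed point of `N` on `perp C`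
      letI : MulAction N D :=
        { smul := fun a w => ⟨((a : H) : MulAut W) w, fun x hx => by
            have h2 : x = ((a : H) : MulAut W) x := (hx a a.2).symm
            rw [h2, hpres _ (a : H).2]; exact w.2 x hx⟩
          one_smul := fun w => Subtype.ext rfl
          mul_smul := fun a b w => Subtype.ext rfl }
      have h := hNr.card_modEq_card_fixedPoints D
      have hD2 : 2 ∣ Nat.card D := by
        obtain ⟨⟨d, hd⟩, hd1⟩ := (Subgroup.ne_bot_iff_exists_ne_one).1 hD
        have : orderOf (⟨d, hd⟩ : D) = 2 := orderOf_eq_prime (Subtype.ext (hexp d)) hd1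
        exact this ▸ orderOf_dvd_natCard _
      obtain ⟨⟨w, hw⟩, hw1⟩ : ∃ w : MulAction.fixedPoints N D, (w : D) ≠ 1 := by
        by_contra! hall
        haveI : Subsingleton (MulAction.fixedPoints N D) :=
          ⟨fun a b => Subtype.ext ((hall a).trans (hall b).symm)⟩
        haveI : Nonempty (MulAction.fixedPoints N D) := ⟨⟨1, fun a => Subtype.ext (map_one _)⟩⟩
        rw [Nat.card_of_subsingleton (⟨1, fun a => Subtype.ext (map_one _)⟩ : MulAction.fixedPoints N D)] at h
        exact absurd ((Nat.modEq_zero_iff_dvd.2 hD2).symm.trans h) (by decide)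
      have hwC : (w : W) ∈ C := fun a ha => congrArg Subtype.val (hw ⟨a, ha⟩)
      exact hw1 (Subtype.ext (hCnd _ hwC w.2))
  have hr3 : r ≠ 3 := fun h => h3 (h ▸ by
    obtain ⟨a, ha1⟩ := Subgroup.ne_bot_iff_exists_ne_one.1 hN1
    obtain ⟨k, hk⟩ := IsPGroup.iff_card.1 hNr
    have hk0 : k ≠ 0 := fun h0 => hN1 (Subgroup.card_eq_one.1 (by rw [hk, h0, pow_zero]))
    exact (dvd_pow_self r hk0).trans ((hk ▸ Subgroup.card_subgroup_dvd_card N :)))
  -- the sizes
  obtain ⟨j, hjn, hj⟩ : ∃ j ≤ n, Nat.card C = 4 ^ j := by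
    obtain ⟨d, hd⟩ := isSquare_card_aux f halt C hCnd
    obtain ⟨i, -, hi⟩ := (Nat.dvd_prime_pow Nat.prime_two).1
      (show Nat.card C ∣ 2 ^ (2 * n) by
        rw [pow_mul, show (2 : ℕ) ^ 2 = 4 from rfl, ← hW]; exact Subgroup.card_subgroup_dvd_card C)
    have hle : 2 ^ i ≤ 2 ^ (2 * n) := by
      rw [← hi, pow_mul, show (2 : ℕ) ^ 2 = 4 from rfl, ← hW]; exact Subgroup.card_le_card_group C
    have hin := (Nat.pow_le_pow_iff_right (by norm_num : 1 < 2)).1 hle
    obtain ⟨k, hk, hdk⟩ := (Nat.dvd_prime_pow Nat.prime_two).1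
      (show d ∣ 2 ^ i from hi ▸ hd ▸ dvd_mul_right d d)
    refine ⟨k, ?_, ?_⟩
    · have : 2 ^ (k + k) = 2 ^ i := by rw [pow_add, ← hdk, ← hd, hi]
      have := Nat.pow_right_injective le_rfl this
      omega
    · rw [hd, hdk, ← pow_add, show (4 : ℕ) = 2 ^ 2 from rfl, ← pow_mul, two_mul]
  have hmod : r ∣ 4 ^ n - 4 ^ j :=
    (Nat.modEq_iff_dvd' (Nat.pow_le_pow_right (by norm_num) hjn)).1 (by rw [← hW, ← hj]; exact hCcard.symm)
  have hjlt : j < n := by
    refine lt_of_le_of_ne hjn fun h => hN1 ((Subgroup.eq_bot_iff_forall _).2 fun a ha =>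
      Subtype.ext (MulEquiv.ext fun w => ?_))
    have hC : C = ⊤ := Subgroup.eq_top_of_card_eq C (by rw [hj, hW, h])
    exact (hC ▸ Subgroup.mem_top w : w ∈ C) a ha
  have hj0 : j = 0 := by
    by_contra hj0
    have hj1 : j = 1 := by
      have hp : ∀ m, r ∣ m → m = 12 ∨ m = 48 → False := by
        rintro m hm (rfl | rfl)
        all_goals
          have hle := Nat.le_of_dvd (by norm_num) hm
          interval_cases r <;> first | omega | norm_num at hr
      rcases hn with rfl | rfl <;> interval_cases j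
      all_goals first | rfl | omega |
        (norm_num at hmod; exact (hp _ hmod (by omega)).elim)
    rw [hj1, pow_one] at hj
    -- a fixed point of `H` among four
    haveI := Fintype.ofFinite W
    obtain ⟨w, hw, hw1⟩ : ∃ w ∈ C, w ≠ 1 := by
      by_contra! h
      rw [(Subgroup.eq_bot_iff_forall C).2 h, Subgroup.card_bot] at hj
      norm_num at hj
    have hexists : ∃ v ∈ C, v ≠ 1 ∧ ∀ g ∈ H, g v = v := by
      by_contra hno
      push Not at hno
      letI : MulAction H {v : W // v ∈ C ∧ v ≠ 1} :=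
        { smul := fun g v => ⟨(g : MulAut W) v, hCinv g g.2 v v.2.1, fun h => v.2.2
            ((g : MulAut W).injective (h.trans (map_one _).symm))⟩
          one_smul := fun v => Subtype.ext rfl
          mul_smul := fun a b v => Subtype.ext rfl }
      have hc3 : Nat.card {v : W // v ∈ C ∧ v ≠ 1} = 3 := by
        have e : {v : W // v ∈ C ∧ v ≠ 1} ≃ {v : C // v ≠ 1} :=
          { toFun := fun v => ⟨⟨v.1, v.2.1⟩, fun h => v.2.2 (congrArg Subtype.val h)⟩
            invFun := fun v => ⟨v.1.1, v.1.2, fun h => v.2 (Subtype.ext h)⟩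
            left_inv := fun v => rfl
            right_inv := fun v => rfl }
        rw [Nat.card_congr e, Nat.card_eq_fintype_card, Fintype.card_subtype_compl,
          Fintype.card_subtype_eq, ← Nat.card_eq_fintype_card, hj]
      set o := MulAction.orbit H (⟨w, hw, hw1⟩ : {v : W // v ∈ C ∧ v ≠ 1}) with ho
      have hdvd : Nat.card o ∣ Nat.card H := by
        rw [ho, Nat.card_coe_set_eq, ← MulAction.index_stabilizer H]; exact Subgroup.index_dvd_card _
      have hle : Nat.card o ≤ 3 := hc3 ▸ Nat.card_le_card_of_injective _ Subtype.val_injective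
      have hpos : 0 < Nat.card o := Nat.card_pos_iff.2 ⟨⟨⟨_, MulAction.mem_orbit_self _⟩⟩, inferInstance⟩
      have hone : Nat.card o ≠ 1 := by
        intro h1
        haveI := (Nat.card_eq_one_iff_unique.1 h1).1
        obtain ⟨g, hg, hgw⟩ := hno w hw hw1
        exact hgw (congrArg (fun v : {v : W // v ∈ C ∧ v ≠ 1} => (v : W)) (congrArg Subtype.val
          (Subsingleton.elim (⟨_, MulAction.mem_orbit _ (⟨g, hg⟩ : H)⟩ : o)
            ⟨_, MulAction.mem_orbit_self _⟩)))
      have htwo : Nat.card o = 2 := by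
        interval_cases h : Nat.card o
        · exact absurd rfl hone
        · rfl
        · exact absurd hdvd h3
      obtain ⟨z, hz, hzu⟩ : ∃! z, z ∉ o := by
        haveI := Fintype.ofFinite {v : W // v ∈ C ∧ v ≠ 1}
        have hc : (oᶜ : Set _).ncard = 1 := by
          rw [Set.ncard_compl, hc3, ← Nat.card_coe_set_eq, htwo]
        obtain ⟨z, hz⟩ := Set.ncard_eq_one.1 hc
        exact ⟨z, show z ∈ oᶜ from hz ▸ rfl, fun z' (hz' : z' ∈ oᶜ) => by rwa [hz] at hz'⟩
      obtain ⟨g, hg, hgz⟩ := hno z z.2.1 z.2.2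
      refine hgz (congrArg Subtype.val (hzu ((⟨g, hg⟩ : H) • z) fun h => hz ?_))
      rw [ho] at h ⊢
      rw [← inv_smul_smul (⟨g, hg⟩ : H) z, ← MulAction.orbit_eq_iff.2 h]
      exact MulAction.mem_orbit _ _
    obtain ⟨v, -, hv1, hv⟩ := hexists
    exact hv1 (hnofix v hv)
  subst hj0
  have hCbot : C = ⊥ := Subgroup.card_eq_one.1 (by rw [hj, pow_zero])
  have hr57 : r = 5 ∧ n = 2 ∨ r = 7 ∧ n = 3 := by
    rcases hn with rfl | rfl
    · norm_num at hmod
      have hle := Nat.le_of_dvd (by norm_num) hmod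
      interval_cases r <;> first | omega | norm_num at hr
    · norm_num at hmod
      have hle := Nat.le_of_dvd (by norm_num) hmod
      interval_cases r <;> first | omega | norm_num at hr
  haveI := hNc
  -- every nontrivial element of `N` moves all nontrivial points
  have hfree : ∀ a ∈ N, a ≠ 1 → ∀ w : W, (a : MulAut W) w = w → w = 1 := by
    intro a ha ha1
    let Ca : Subgroup W :=
      { carrier := {w | (a : MulAut W) w = w}
        one_mem' := map_one _
        mul_mem' := fun {x y} hx hy => by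
          show (a : MulAut W) (x * y) = x * y
          rw [map_mul, show (a : MulAut W) x = x from hx, show (a : MulAut W) y = y from hy]
        inv_mem' := fun {x} hx => by
          show (a : MulAut W) x⁻¹ = x⁻¹
          rw [map_inv, show (a : MulAut W) x = x from hx] }
    have hcard : Nat.card W ≡ Nat.card Ca [MOD r] := by
      refine (hcount (Subgroup.zpowers a) (hNr.to_le (Subgroup.zpowers_le.2 ha))).trans
        (Nat.modEq_of_dvd ?_)
      rw [show Nat.card {w : W | ∀ b : Subgroup.zpowers a, ((b : H) : MulAut W) w = w} = Nat.card Ca from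
        Nat.card_congr (Equiv.subtypeEquivRight fun w => ⟨fun h => h ⟨a, Subgroup.mem_zpowers a⟩,
          fun (h : (a : MulAut W) w = w) b => ?_⟩)]
      · simp
      · obtain ⟨k, hk⟩ := b.2
        rw [← hk]
        have hm : ((a : MulAut W)) ∈ MulAction.stabilizer (MulAut W) w := h
        exact Subgroup.zpow_mem _ hm k
    have hnd' : ∀ x ∈ Ca, (∀ y ∈ Ca, f x y = 1) → x = 1 := by
      intro x hx hxy
      refine hnd x fun w => ?_
      set m := orderOf (a : MulAut W) with hm
      have hmodd : Nat.Coprime m 2 := by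
        obtain ⟨k, hk⟩ := (IsPGroup.iff_orderOf.1 hNr) ⟨a, ha⟩
        rw [Subgroup.orderOf_mk] at hk
        rw [hm, Subgroup.orderOf_coe, hk]
        exact Nat.Coprime.pow_left k ((Nat.coprime_primes hr Nat.prime_two).2 hr2)
      have hpr : f x (∏ k ∈ Finset.range m, ((a : MulAut W) ^ k) w) = 1 := by
        refine hxy _ ?_
        show (a : MulAut W) _ = _
        rw [map_prod]
        let G := fun k => ((a : MulAut W) ^ k) w
        have h1 := Finset.prod_range_succ' G m
        have h2 := Finset.prod_range_succ G m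
        have hGr : G m = G 0 := by
          simp only [G]
          rw [hm, pow_orderOf_eq_one, pow_zero]
        rw [h2, hGr] at h1
        calc ∏ k ∈ Finset.range m, (a : MulAut W) (G k) = ∏ k ∈ Finset.range m, G (k + 1) := by
              refine Finset.prod_congr rfl fun k _ => ?_
              simp only [G, pow_succ', MulAut.mul_apply]
          _ = ∏ k ∈ Finset.range m, G k := (mul_right_cancel h1).symm
      have heach : ∀ k : ℕ, f x (((a : MulAut W) ^ k) w) = f x w := by
        intro k
        induction k with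
        | zero => rfl
        | succ k ih =>
          rw [pow_succ', MulAut.mul_apply]
          conv_lhs => rw [← show (a : MulAut W) x = x from hx]
          rw [hpres _ a.2, ih]
      rw [map_prod, Finset.prod_congr rfl fun k _ => heach k, Finset.prod_const, Finset.card_range] at hpr
      have h2 : (f x w) ^ 2 = 1 := by rw [← map_pow, hexp, map_one]
      exact orderOf_eq_one_iff.1 (Nat.dvd_one.1 (hmodd ▸
        Nat.dvd_gcd (orderOf_dvd_of_pow_eq_one hpr) (orderOf_dvd_of_pow_eq_one h2)))
    obtain ⟨d, hd⟩ := isSquare_card_aux f halt Ca hnd'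
    have hd2 : d * d ∣ 4 ^ n := hd ▸ hW ▸ Subgroup.card_subgroup_dvd_card Ca
    have hlt : Nat.card Ca ≠ 4 ^ n := fun h => ha1 (Subtype.ext (MulEquiv.ext fun w => by
      have : Ca = ⊤ := Subgroup.eq_top_of_card_eq Ca (by rw [h, hW])
      exact (this ▸ Subgroup.mem_top w : w ∈ Ca)))
    have hone : Nat.card Ca = 1 := by
      obtain ⟨k, hk, hdk⟩ := (Nat.dvd_prime_pow Nat.prime_two).1
        (show d ∣ 2 ^ (2 * n) by
          rw [pow_mul, show (2 : ℕ) ^ 2 = 4 from rfl]; exact dvd_trans (dvd_mul_right d d) hd2)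
      have hk' : 2 ^ (k + k) ≤ 2 ^ (2 * n) := by
        rw [pow_add, ← hdk, pow_mul, show (2 : ℕ) ^ 2 = 4 from rfl]
        exact Nat.le_of_dvd (by positivity) hd2
      have hkn := (Nat.pow_le_pow_iff_right (by norm_num : 1 < 2)).1 hk'
      rw [hd, hdk, ← pow_add] at hlt hcard ⊢
      rw [hW] at hcard
      rcases hr57 with ⟨rfl, rfl⟩ | ⟨rfl, rfl⟩ <;>
        (have hk3 : k ≤ 3 := by omega
         interval_cases k <;> revert hcard hlt hkn <;> decide)
    exact fun w hw => Subgroup.mem_bot.1 (Subgroup.card_eq_one.1 hone ▸ (show w ∈ Ca from hw))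
  -- `N` has prime order
  have hN : Nat.card N = r := by
    letI : MulAction N {w : W // w ≠ 1} :=
      { smul := fun a v => ⟨((a : H) : MulAut W) v, fun h => v.2
          (((a : H) : MulAut W).injective (h.trans (map_one _).symm))⟩
        one_smul := fun v => Subtype.ext rfl
        mul_smul := fun a b v => Subtype.ext rfl }
    haveI := Fintype.ofFinite W
    have hd := Coprime.card_dvd_card_of_free (A := N) (S := {w : W // w ≠ 1}) fun a v hav => by
      by_contra ha1
      exact v.2 (hfree a a.2 (fun h => ha1 (Subtype.ext h)) v (congrArg Subtype.val hav))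
    rw [Nat.card_eq_fintype_card (α := {v : W // v ≠ 1}), Fintype.card_subtype_compl,
      Fintype.card_subtype_eq, ← Nat.card_eq_fintype_card (α := W), hW] at hd
    obtain ⟨k, hk⟩ := IsPGroup.iff_card.1 hNr
    have hk0 : k ≠ 0 := fun h0 => hN1 (Subgroup.card_eq_one.1 (by rw [hk, h0, pow_zero]))
    have hk2 : k < 2 := by
      by_contra hk2
      have hd' := ((pow_dvd_pow r (show 2 ≤ k by omega)).trans (hk ▸ hd :))
      rcases hr57 with ⟨rfl, rfl⟩ | ⟨rfl, rfl⟩ <;> norm_num at hd'
    rw [hk, show k = 1 by omega, pow_one]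
  obtain ⟨⟨a, ha⟩, ha1⟩ := Subgroup.ne_bot_iff_exists_ne_one.1 hN1
  have ha1' : a ≠ 1 := fun h => ha1 (Subtype.ext h)
  set th : H := ⟨t, ht⟩
  have hth2 : th * th = 1 := Subtype.ext ht2
  have hb : th * a * th⁻¹ ∈ N := hNn.conj_mem a ha th
  have hthinv : th⁻¹ = th := inv_eq_of_mul_eq_one_left hth2
  obtain ⟨i, hi⟩ : ∃ i : ℤ, (⟨a, ha⟩ : N) ^ i = ⟨th * a * th⁻¹, hb⟩ :=
    Subgroup.mem_zpowers_iff.1 (mem_zpowers_of_prime_card hN ha1)
  replace hi : a ^ i = th * a * th⁻¹ := congrArg Subtype.val hi
  have hii : a ^ (i * i) = a := by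
    have hz := map_zpow (MulAut.conj th).toMonoidHom a i
    rw [MulEquiv.coe_toMonoidHom, MulAut.conj_apply, MulAut.conj_apply, ← hi] at hz
    rw [zpow_mul, ← hz, hi, hthinv]
    calc th * (th * a * th) * th = (th * th) * a * (th * th) := by group
      _ = a := by rw [hth2, one_mul, mul_one]
  have horda : orderOf a = r := by
    have h := orderOf_eq_prime (x := (⟨a, ha⟩ : N)) (p := r) (hN ▸ pow_card_eq_one') ha1
    rwa [Subgroup.orderOf_mk] at h
  have hpm : a ^ i = a ∨ a ^ i = a⁻¹ := by
    have hdvd : (r : ℤ) ∣ i * i - 1 := by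
      rw [← horda, orderOf_dvd_iff_zpow_eq_one, zpow_sub_one, hii, mul_inv_cancel]
    rw [show i * i - 1 = (i - 1) * (i + 1) by ring] at hdvd
    rcases (Nat.prime_iff_prime_int.1 hr).dvd_mul.1 hdvd with h | h
    · left
      rw [← horda, orderOf_dvd_iff_zpow_eq_one, zpow_sub_one, mul_inv_eq_one] at h
      exact h
    · right
      rw [← horda, orderOf_dvd_iff_zpow_eq_one, zpow_add_one, mul_eq_one_iff_eq_inv] at h
      exact h
  set F : Subgroup W :=
    { carrier := {w | t w = w}
      one_mem' := map_one _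
      mul_mem' := fun {x y} hx hy => by
        show t (x * y) = x * y
        rw [map_mul, show t x = x from hx, show t y = y from hy]
      inv_mem' := fun {x} hx => by
        show t x⁻¹ = x⁻¹
        rw [map_inv, show t x = x from hx] }
  have hF : Nat.card F = 2 ^ (n + 1) := hfix
  have happ : ∀ (g h : H) (w : W), ((g * h : H) : MulAut W) w = (g : MulAut W) ((h : MulAut W) w) :=
    fun g h w => rfl
  rcases hpm with hc | hinv
  · -- `t` centralises `a`
    rw [hc] at hi
    have hcomm : th * a = a * th := by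
      conv_rhs => rw [hi, hthinv, mul_assoc, hth2, mul_one]
    letI : MulAction (Subgroup.zpowers a) F :=
      { smul := fun b w => ⟨((b : H) : MulAut W) w, by
          obtain ⟨k, hk⟩ := b.2
          show (th : MulAut W) _ = _
          have : Commute th (b : H) := hk ▸ (show Commute th a from hcomm).zpow_right k
          rw [← happ, this.eq, happ, show (th : MulAut W) w = w from w.2]⟩
        one_smul := fun w => Subtype.ext rfl
        mul_smul := fun b b' w => Subtype.ext rfl }
    have h := (hNr.to_le (Subgroup.zpowers_le.2 ha)).card_modEq_card_fixedPoints F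
    haveI : Subsingleton (MulAction.fixedPoints (Subgroup.zpowers a) F) := ⟨fun x y => by
      refine Subtype.ext (Subtype.ext ((hfree a ha ha1' _ ?_).trans (hfree a ha ha1' _ ?_).symm))
      · exact congrArg Subtype.val (x.2 ⟨a, Subgroup.mem_zpowers a⟩)
      · exact congrArg Subtype.val (y.2 ⟨a, Subgroup.mem_zpowers a⟩)⟩
    rw [Nat.card_of_subsingleton (⟨1, fun b => Subtype.ext (map_one _)⟩ :
      MulAction.fixedPoints (Subgroup.zpowers a) F), hF] at h
    rcases hr57 with ⟨rfl, rfl⟩ | ⟨rfl, rfl⟩ <;> revert h <;> decide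
  · -- `t` inverts `a`
    rw [hinv] at hi
    have hta : th * a = a⁻¹ * th := by rw [hi, mul_assoc, inv_mul_cancel, mul_one]
    have hinj : Function.Injective fun p : F × F => (p.1 : W) * (a : MulAut W) p.2 := by
      intro p q hpq
      have hu : (a : MulAut W) (((p.2 / q.2 : F)) : W) = ((q.1 / p.1 : F) : W) := by
        simp only [Subgroup.coe_div, map_div]
        rw [div_eq_div_iff_mul_eq_mul, mul_comm]
        exact hpq
      have h1 : (th : MulAut W) ((a : MulAut W) ((p.2 / q.2 : F) : W)) = (a : MulAut W) ((p.2 / q.2 : F) : W) := by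
        rw [hu]; exact (q.1 / p.1 : F).2
      rw [← happ, hta, happ, show (th : MulAut W) ((p.2 / q.2 : F) : W) = _ from (p.2 / q.2 : F).2] at h1
      have h2 : ((a * a : H) : MulAut W) ((p.2 / q.2 : F) : W) = ((p.2 / q.2 : F) : W) := by
        rw [happ, ← h1, ← happ, mul_inv_cancel]; rfl
      have haa : a * a ≠ 1 := fun h => by
        have := orderOf_dvd_of_pow_eq_one (x := a) (n := 2) (by rw [sq, h])
        rw [horda] at this
        exact hr2 ((Nat.prime_dvd_prime_iff_eq hr Nat.prime_two).1 this)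
      have h3 : p.2 / q.2 = 1 := Subtype.ext (hfree _ (N.mul_mem ha ha) haa _ h2)
      rw [h3, OneMemClass.coe_one, map_one] at hu
      have h4 : q.1 / p.1 = 1 := Subtype.ext hu.symm
      exact Prod.ext (div_eq_one.1 h4).symm (div_eq_one.1 h3)
    have h := Nat.card_le_card_of_injective _ hinj
    rw [Nat.card_prod, hF, hW] at h
    rcases hr57 with ⟨rfl, rfl⟩ | ⟨rfl, rfl⟩ <;> norm_num at h

end Cfsg.Agent.CoprimeBase.Small
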