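import Cfsg.Agent.Lib.CoprimeBase.Small.Symp
import Cfsg.Agent.Lib.CoprimeBase.Small.Embed
import Cfsg.Agent.Lib.CoprimeBase.Small.Cases
import Cfsg.Agent.Lib.CoprimeBase.Small.Involution
import Cfsg.Agent.Lib.BaseThree.Frame
import Cfsg.Agent.Lib.OddBaseTwo.Count
import Mathlib.Tactic.NormNum.Prime

/-!
# Two points for the small Pauli sections over three and five elements

* `hasBase_small`: the primitive case with `|K| ∈ {3, 5}` and `|M/Z| ≤ 4 ^ 5`.
-/

set_option autoImplicit false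
set_option linter.style.haveILetI false

namespace Cfsg.Agent.CoprimeBase.Small

open OddBaseTwo BaseThree
open scoped commutatorElement

universe u v

theorem zmod_three_nonsq : ∀ b : ZMod 3, b ^ 2 ≠ -1 := by decide

theorem zmod_three : (3 : ZMod 3) = 0 := by decide

theorem zmod_five_neg_one : (2 : ZMod 5) ^ 2 * -1 = 1 := by decide

theorem zmod_two_ne {p : ℕ} (hp : p = 3 ∨ p = 5) : ((2 : ℕ) : ZMod p) ≠ 0 := by
  intro h
  have := Nat.le_of_dvd two_pos ((ZMod.natCast_eq_zero_iff _ _).1 h)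
  omega

variable {A : Type u} [Group A] [Finite A] {p : ℕ} [hpF : Fact p.Prime] {V : Type v} [AddCommGroup V]
  [Module (ZMod p) V] [DistribMulAction A V] [FaithfulSMul A V] [Finite V] [Nontrivial V]
  (P : PrimData A (ZMod p) V)

theorem pow_two_W (hp : p = 3 ∨ p = 5) (w : P.W) : w ^ 2 = 1 := by
  refine orderOf_dvd_iff_pow_eq_one.1 ?_
  have hall : ∀ d : ℕ, d.Prime → d ∣ orderOf w → d = 2 := by
    intro d hd hdw
    have h := P.dvd_W hd (hdw.trans (orderOf_dvd_natCard w))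
    rw [Nat.card_zmod] at h
    rcases hp with rfl | rfl
    · exact (Nat.prime_dvd_prime_iff_eq hd Nat.prime_two).1 h
    · exact prime_ne_two_pow hd (show d ∣ 2 ^ 2 from h)
  have hpos := orderOf_pos w
  rw [Nat.eq_prime_pow_of_unique_prime_dvd hpos.ne' (fun {d} hd hdw => hall d hd hdw)]
  refine (pow_dvd_pow 2 ?_).trans (by rw [pow_one])
  by_contra h
  refine not_sq_dvd_orderOf P Nat.prime_two w ?_
  rw [← sq, Nat.eq_prime_pow_of_unique_prime_dvd hpos.ne' (fun {d} hd hdw => hall d hd hdw)]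
  exact pow_dvd_pow 2 (by omega)

theorem hiso_W (hmax : ∀ B : Subgroup A, B.Normal → (∀ x ∈ B, ∀ y ∈ B, x * y = y * x) → P.Z ≤ B →
      B = P.Z)
    (S : Subgroup P.W) (hS : ∀ g : A, ∀ s ∈ S, P.conj g s ∈ S)
    (hiso : ∀ a ∈ S, ∀ b ∈ S, P.form a b = 1) : S = ⊥ := by
  let N : Subgroup A := (S.comap (π P)).map P.M.subtype
  have hmem : ∀ x : ↥P.M, (x : A) ∈ N ↔ π P x ∈ S := fun x =>
    ⟨fun ⟨y, hy, hyx⟩ => by rw [← Subtype.ext hyx]; exact hy, fun h => ⟨x, h, rfl⟩⟩
  have hNM : ∀ x ∈ N, x ∈ P.M := by rintro _ ⟨y, -, rfl⟩; exact y.2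
  have hN : N = P.Z := by
    refine hmax N ⟨fun x hx g => ?_⟩ (fun x hx y hy => ?_) fun z hz => ?_
    · exact (hmem (MulAut.conjNormal g ⟨x, hNM x hx⟩)).2 (hS g _ ((hmem ⟨x, hNM x hx⟩).1 hx))
    · exact (form_eq_one_iff P (hNM x hx) (hNM y hy)).1
        (hiso _ ((hmem ⟨x, hNM x hx⟩).1 hx) _ ((hmem ⟨y, hNM y hy⟩).1 hy))
    · refine (hmem ⟨z, P.good.le hz⟩).2 ?_
      rw [(π_eq_one P (P.good.le hz)).2 hz]
      exact one_mem _
  refine (Subgroup.eq_bot_iff_forall S).2 fun w hw => ?_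
  obtain ⟨x, rfl⟩ := QuotientGroup.mk_surjective w
  have h1 := (hmem x).2 hw
  rw [hN] at h1
  exact (π_eq_one P x.2).2 h1

theorem hasBase_small (hp : p = 3 ∨ p = 5) (hC : P.C = ⊤) (hsol : Group.IsSolvable A)
    (hcop : (Nat.card A).Coprime (Nat.card V)) (hCZ : P.C ≠ P.Z)
    (hmax : ∀ B : Subgroup A, B.Normal → (∀ x ∈ B, ∀ y ∈ B, x * y = y * x) → P.Z ≤ B → B = P.Z)
    (hW : Nat.card P.W ≤ 4 ^ 5) : HasBase A V := by
  classical
  haveI := hsol
  have hgC : ∀ g : A, g ∈ P.C := fun g => hC ▸ Subgroup.mem_top g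
  have hexp := pow_two_W P hp
  have hiso := hiso_W P hmax
  have h2 : (2 : ZMod p) ≠ 0 := fun h => zmod_two_ne hp (by rw [Nat.cast_ofNat]; exact h)
  have h21 : (-1 : (ZMod p)ˣ) ≠ 1 := fun h => ne_of_two h2 (by
    have := congrArg (fun a : (ZMod p)ˣ => (a : ZMod p)) h
    simpa using this)
  -- lifts and their squares
  choose X hX using QuotientGroup.mk_surjective (s := P.Z.subgroupOf P.M)
  have hsqZ : ∀ w : P.W, (X w : A) * X w ∈ P.Z := fun w => by
    refine (π_eq_one P (mul_mem (X w).2 (X w).2)).1 ?_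
    show QuotientGroup.mk (X w * X w) = (1 : P.W)
    rw [QuotientGroup.mk_mul, hX, ← sq, hexp]
  set ψ : P.W → (ZMod p)ˣ := fun w => P.χ ⟨_, hsqZ w⟩ with hψ
  set h := (p - 1) / 2 with hh
  set q : P.W → (ZMod p)ˣ := fun w => ψ w ^ h with hq
  have hpm : p - 1 = 2 * h := by rcases hp with rfl | rfl <;> rfl
  have hfermat : ∀ a : (ZMod p)ˣ, (a ^ 2) ^ h = 1 := fun a => by
    rw [← pow_mul, ← hpm, ZMod.units_pow_card_sub_one_eq_one]
  have hqx : ∀ x : ↥P.M, ∀ hx : (x : A) * x ∈ P.Z, P.χ ⟨_, hx⟩ ^ h = q (π P x) := by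
    intro x hx
    have hz : ((X (π P x) : ↥P.M) : A)⁻¹ * x ∈ P.Z :=
      (π_eq_one P ((X (π P x))⁻¹ * x).2).1 (by
        show QuotientGroup.mk ((X (π P x))⁻¹ * x) = (1 : P.W)
        rw [QuotientGroup.mk_mul, QuotientGroup.mk_inv, hX]
        exact inv_mul_cancel _)
    set z : ↥P.Z := ⟨_, hz⟩
    have e : (⟨_, hx⟩ : ↥P.Z) = z * z * ⟨_, hsqZ (π P x)⟩ := Subtype.ext (by
      show (x : A) * x = z.1 * z.1 * ((X (π P x) : A) * X (π P x))
      have hxz : (x : A) = X (π P x) * z.1 := (mul_inv_cancel_left _ _).symm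
      have hc := P.hcen _ hz _ (X (π P x)).2
      rw [hxz]
      have hcm : Commute (X (π P x) : A) z.1 := hc
      rw [hcm.symm.mul_mul_mul_comm,
        ((hcm.mul_right hcm).mul_left (hcm.mul_right hcm)).eq])
    rw [e, map_mul, map_mul, mul_pow, ← sq, hfermat, one_mul]
  have hlaw : ∀ a b : P.W, q (a * b) = P.form b a ^ h * (q a * q b) := by
    intro a b
    have hab : π P (X a * X b) = a * b := by
      show QuotientGroup.mk (X a * X b) = (a * b : P.W)
      rw [QuotientGroup.mk_mul, hX, hX]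
    have hx : ((X a * X b : ↥P.M) : A) * (X a * X b : ↥P.M) ∈ P.Z := by
      refine (π_eq_one P (mul_mem (X a * X b).2 (X a * X b).2)).1 ?_
      show QuotientGroup.mk ((X a * X b) * (X a * X b)) = (1 : P.W)
      rw [QuotientGroup.mk_mul, show QuotientGroup.mk (X a * X b) = (a * b : P.W) from hab, ← sq, hexp]
    have hc : ⁅(X b : A), (X a : A)⁆ ∈ P.Z := P.good.comm _ (X b).2 _ (X a).2
    have e : (⟨_, hx⟩ : ↥P.Z) = ⟨_, hc⟩ * (⟨_, hsqZ a⟩ * ⟨_, hsqZ b⟩) := Subtype.ext (by
      show (X a : A) * X b * (X a * X b) = ⁅(X b : A), (X a : A)⁆ * (X a * X a * (X b * X b))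
      have hcc := P.hcen _ hc _ (X a).2
      calc (X a : A) * X b * (X a * X b)
          = ((X a : A) * ⁅(X b : A), (X a : A)⁆) * (X a * X b * X b) := by
            simp only [commutatorElement_def]; group
        _ = _ := by rw [hcc]; group)
    have hform : P.form b a = P.χ ⟨_, hc⟩ := by
      conv_lhs => rw [← hX a, ← hX b]
      exact P.form_mk _ _
    rw [← hab, ← hqx _ hx, e, map_mul, map_mul, mul_pow, mul_pow, ← hform]
  have hψv : ∀ w, q w = 1 ∨ q w = -1 := fun w => by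
    have : ((q w : (ZMod p)ˣ) : ZMod p) ^ 2 = 1 := by
      rw [← Units.val_pow_eq_pow_val, hq]
      simp only
      rw [← pow_mul, mul_comm, pow_mul, hfermat, Units.val_one]
    rcases sq_eq_one_iff.1 this with h | h
    · exact Or.inl (Units.ext h)
    · exact Or.inr (Units.ext (by rw [h, Units.val_neg, Units.val_one]))
  have hq5 : p = 5 → ∀ w, q w = 1 := by
    intro h5
    have hh2 : h = 2 := by rw [hh, h5]
    have hone : ∀ a b : P.W, P.form b a ^ h = 1 := fun a b => by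
      rw [hh2, ← MonoidHom.pow_apply, ← map_pow, hexp, map_one, MonoidHom.one_apply]
    have hq1 : q 1 = 1 := by
      have := hlaw 1 1
      rw [mul_one, hone, one_mul, left_eq_mul] at this
      exact this
    let qh : P.W →* (ZMod p)ˣ :=
      { toFun := q, map_one' := hq1, map_mul' := fun a b => by rw [hlaw, hone, one_mul] }
    obtain ⟨u, hu⟩ := exists_eq_char P.form P.nondeg qh
    have hfix : ∀ g : A, P.conj g u = u := by
      intro g
      refine mul_inv_eq_one.1 (P.nondeg _ fun w => ?_)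
      obtain ⟨w', rfl⟩ := (P.conj g).surjective w
      rw [map_mul, map_inv, MonoidHom.mul_apply, MonoidHom.inv_apply, P.form_conj (hgC g),
        DFunLike.congr_fun hu w', DFunLike.congr_fun hu, mul_inv_eq_one]
      show q w' = q (P.conj g w')
      conv_rhs => rw [← hX w', P.conj_mk]
      show q w' = q (π P (MulAut.conjNormal g (X w')))
      have hmem : ((MulAut.conjNormal g (X w') : ↥P.M) : A) * (MulAut.conjNormal g (X w') : ↥P.M) ∈ P.Z := by
        rw [MulAut.conjNormal_apply, show g * (X w' : A) * g⁻¹ * (g * X w' * g⁻¹) =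
          g * (X w' * X w') * g⁻¹ by group, P.commute_Z (hsqZ w') (hgC g), mul_inv_cancel_right]
        exact hsqZ w'
      rw [← hqx _ hmem, hq]
      simp only [hψ]
      congr 2
      refine Subtype.ext ?_
      show (X w' : A) * X w' =
        ((MulAut.conjNormal g (X w') : ↥P.M) : A) * (MulAut.conjNormal g (X w') : ↥P.M)
      rw [MulAut.conjNormal_apply, show g * (X w' : A) * g⁻¹ * (g * X w' * g⁻¹) =
        g * (X w' * X w') * g⁻¹ by group, P.commute_Z (hsqZ w') (hgC g), mul_inv_cancel_right]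
    have hu1 : u = 1 := Subgroup.mem_bot.1 (hiso (Subgroup.zpowers u) (fun g s hs => by
        obtain ⟨k, rfl⟩ := hs
        rw [map_zpow, hfix]
        exact ⟨k, rfl⟩) (fun a ha b hb => by
        obtain ⟨i, rfl⟩ := ha
        obtain ⟨j, rfl⟩ := hb
        simp [map_zpow, P.halt]) ▸ Subgroup.mem_zpowers u)
    intro w
    show qh w = 1
    rw [← hu, hu1, map_one, MonoidHom.one_apply]
  have hfsq : ∀ a b : P.W, P.form a b = 1 ∨ P.form a b = -1 := pair_sign P.form hexp
  -- the words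
  obtain ⟨n, minus, ι, hι⟩ := exists_words P.form q hexp P.halt P.nondeg h21 hψv
    (fun a d ha hd had => by
      rcases hp with hp3 | hp5
      · rw [hlaw, ha, hd, pair_comm P.form hexp P.halt, had, one_pow, one_mul, neg_mul_neg, one_mul]
      · exact hq5 hp5 _)
    (fun c d hc hd hcd => by
      rcases hp with hp3 | hp5
      · have hh1 : h = 1 := by rw [hh, hp3]
        rw [hlaw, hc, hd, hcd, hh1, pow_one, mul_one, neg_mul_neg, one_mul]
      · exact hq5 hp5 _)
    (hW.trans (Nat.pow_le_pow_right (by norm_num) (by norm_num)))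
  have hn5 : n ≤ 5 := (Nat.pow_le_pow_iff_right (by norm_num : 1 < 4)).1 (hι.card ▸ hW)
  have hn1 : 1 ≤ n := by
    have := P.one_lt_W hCZ
    rw [hι.card] at this
    rcases Nat.eq_zero_or_pos n with rfl | h0
    · simp at this
    · exact h0
  have hminus : minus = true → p = 3 := fun hm => hp.resolve_right fun h5 => by
    have := hι.qa 0 (by omega)
    rw [hq5 h5, if_pos ⟨hm, rfl⟩] at this
    exact h21 this.symm
  -- the generators
  have hlt : ∀ i < 2 * n, 2 ^ i < 2 ^ (2 * n) := fun i hi => Nat.pow_lt_pow_right one_lt_two hi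
  have hscal : ∀ i < 2 * n, ∃ s : ZMod p, s ≠ 0 ∧
      s ^ 2 * (ψ (ι (2 ^ i)) : ZMod p) = sqv (ZMod p) minus n i := by
    intro i hi
    have hqi : q (ι (2 ^ i)) = if minus = true ∧ (i = 0 ∨ i = n) then -1 else 1 := by
      rcases lt_or_ge i n with h' | h'
      · rw [hι.qa i h']
        refine if_congr ⟨fun a => ⟨a.1, Or.inl a.2⟩, fun a => ⟨a.1, ?_⟩⟩ rfl rfl
        omega
      · obtain ⟨j, rfl⟩ := Nat.exists_eq_add_of_le h'
        rw [hι.qb j (by omega)]
        refine if_congr ⟨fun a => ⟨a.1, Or.inr (by omega)⟩, fun a => ⟨a.1, ?_⟩⟩ rfl rfl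
        omega
    rcases hp with rfl | rfl
    · refine ⟨1, one_ne_zero, ?_⟩
      rw [one_pow, one_mul, show ψ (ι (2 ^ i)) = q (ι (2 ^ i)) from (pow_one _).symm, hqi, sqv]
      split_ifs <;> simp
    · have hm : minus = false := by
        cases minus
        · rfl
        · exact absurd (hminus rfl) (by decide)
      rw [show sqv (ZMod 5) minus n i = 1 by simp [sqv, hm]]
      have h1 : ((ψ (ι (2 ^ i)) : (ZMod 5)ˣ) : ZMod 5) ^ 2 = 1 := by
        rw [← Units.val_pow_eq_pow_val, show ψ (ι (2 ^ i)) ^ 2 = q (ι (2 ^ i)) from rfl, hqi]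
        simp [hm]
      rcases sq_eq_one_iff.1 h1 with h' | h' <;> rw [h']
      · exact ⟨1, one_ne_zero, by ring⟩
      · exact ⟨2, h2, zmod_five_neg_one⟩
  choose! sc hsc0 hscal using hscal
  set E : ℕ → Module.End (ZMod p) V :=
    fun i => sc i • P.op (hgC (X (ι (2 ^ i)) : A)) with hE
  have hEapp : ∀ i x, E i x = sc i • ((X (ι (2 ^ i)) : A) • x) := fun i x => rfl
  have hEswap : ∀ i < 2 * n, ∀ j < 2 * n, ∀ x, E i (E j x) =
      ((sgnU (ZMod p) (omn n (2 ^ i) (2 ^ j)) : (ZMod p)ˣ) : ZMod p) • E j (E i x) := by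
    intro i hi j hj x
    rw [hEapp, hEapp, hEapp, hEapp, P.linear _ (hgC _), P.linear _ (hgC _),
      P.smul_smul_eq (X (ι (2 ^ i))).2 (X (ι (2 ^ j))).2,
      show P.form (QuotientGroup.mk ⟨_, (X (ι (2 ^ i))).2⟩) (QuotientGroup.mk ⟨_, (X (ι (2 ^ j))).2⟩) =
        sgnU (ZMod p) (omn n (2 ^ i) (2 ^ j)) by
        rw [Subtype.coe_eta, Subtype.coe_eta, hX, hX, hι.form _ (hlt i hi) _ (hlt j hj)]]
    generalize (X (ι (2 ^ j)) : A) • (X (ι (2 ^ i)) : A) • x = y
    module
  have hgens : Gens minus n E :=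
    { two := h2
      le := hι.le
      three := fun hm => by obtain rfl := hminus hm; exact ⟨zmod_three, hn1⟩
      nonsq := fun hm => by obtain rfl := hminus hm; exact zmod_three_nonsq
      sq := fun i hi x => by
        rw [← hscal i hi, hEapp, hEapp, P.linear _ (hgC _), ← mul_smul (X (ι (2 ^ i)) : A),
          show ((X (ι (2 ^ i)) : A) * X (ι (2 ^ i))) • x = (ψ (ι (2 ^ i)) : ZMod p) • x from
            P.scalar ⟨_, hsqZ _⟩ x]
        module
      comm := fun i hi j hj h1 h2 x => by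
        rw [hEswap i hi j hj, omn_basis hι.le hi hj, if_neg (by omega)]
        simp [sgnU]
      anti := fun i hi x => by
        rw [hEswap i (by omega) (n + i) (by omega), omn_basis hι.le (by omega) (by omega),
          if_pos (by omega)]
        simp [sgnU] }
  obtain ⟨φ, hφinj, hφ⟩ := exists_embedding hgens
  have h3 : minus = true → (3 : ZMod p) = 0 ∧ 1 ≤ n := hgens.three
  have hι0 : ι 0 = 1 := by
    have := hι.xor 0 0
    rwa [Nat.xor_self, left_eq_mul] at this
  -- every element of `M` acts on the image as its word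
  have hword : ∀ w < 2 ^ (2 * n), ∀ x : ↥P.M, π P x = ι w →
      ∃ ζ : ZMod p, ζ ≠ 0 ∧ ∀ f, (x : A) • φ f = ζ • φ (op minus w f) := by
    refine xor_induction (P := fun w => ∀ x : ↥P.M, π P x = ι w →
      ∃ ζ : ZMod p, ζ ≠ 0 ∧ ∀ f, (x : A) • φ f = ζ • φ (op minus w f)) ?_ ?_ ?_
    · intro x hx
      have hxZ : (x : A) ∈ P.Z := (π_eq_one P x.2).1 (hx.trans hι0)
      exact ⟨_, Units.ne_zero (P.χ ⟨_, hxZ⟩), fun f => by
        rw [op_zero _ _ fun _ => hn1]; exact P.scalar ⟨_, hxZ⟩ _⟩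
    · intro i hi x hx
      have hz : (x : A) * (X (ι (2 ^ i)) : A)⁻¹ ∈ P.Z :=
        (π_eq_one P (x * (X (ι (2 ^ i)))⁻¹).2).1 (by
          show π P (x * (X (ι (2 ^ i)))⁻¹) = 1
          rw [map_mul, map_inv, hx, show π P (X (ι (2 ^ i))) = ι (2 ^ i) from hX _, mul_inv_cancel])
      refine ⟨(P.χ ⟨_, hz⟩ : ZMod p) * (sc i)⁻¹, mul_ne_zero (Units.ne_zero _)
        (inv_ne_zero (hsc0 i hi)), fun f => ?_⟩
      rw [← hφ i hi f, hEapp, smul_smul, mul_assoc, inv_mul_cancel₀ (hsc0 i hi), mul_one,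
        ← P.scalar ⟨_, hz⟩, ← mul_smul, inv_mul_cancel_right]
    · intro v hv w hw hPv hPw x hx
      obtain ⟨y, hy⟩ := QuotientGroup.mk_surjective (ι v)
      have hy' : π P (y⁻¹ * x) = ι w := by
        rw [map_mul, map_inv, show π P y = ι v from hy, hx, hι.xor, inv_mul_cancel_left]
      obtain ⟨ζ, hζ, hyf⟩ := hPv y hy
      obtain ⟨ζ', hζ', hyf'⟩ := hPw _ hy'
      obtain ⟨s, hs, hop⟩ := op_op (F := ZMod p) minus h3 hι.le hv hw
      have hs0 : s ≠ 0 := by rcases hs with rfl | rfl <;> simp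
      refine ⟨ζ' * ζ * s, mul_ne_zero (mul_ne_zero hζ' hζ) hs0, fun f => ?_⟩
      rw [show (x : A) • φ f = (y : A) • ((y⁻¹ * x : ↥P.M) : A) • φ f by
        rw [← mul_smul, Subgroup.coe_mul, Subgroup.coe_inv, mul_inv_cancel_left],
        hyf', P.linear _ (hgC _), hyf, hop, map_smul, smul_smul, smul_smul, mul_assoc]
  -- the two points
  obtain ⟨c, rfl, rfl, rfl, hc⟩ := exists_cert (p := p) (n := n) minus hn1 hn5
    (hp.imp id fun h5 => ⟨h5, by
      cases minus
      · rfl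
      · have := hminus rfl; omega⟩)
  have hsize : c.size = 2 ^ (2 * c.n) := c.size_eq
  refine ⟨φ c.xv, φ c.yv, ?_⟩
  -- what acts trivially on the section and fixes both points is trivial
  have hid : ∀ g : A, g • φ c.xv = φ c.xv → g • φ c.yv = φ c.yv → P.conj g = 1 → g = 1 := by
    intro g hgx hgy hconj
    have hgM := P.mem_M_of_conj_eq_one (hgC g) hconj
    obtain ⟨w, hw, hwg⟩ := hι.surj (π P ⟨g, hgM⟩)
    obtain ⟨ζ, hζ, hgf⟩ := hword w hw ⟨g, hgM⟩ hwg.symm
    have hpull : ∀ f, g • φ f = φ f → ζ • op c.minus w f = f := fun f hf => hφinj (by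
      rw [map_smul, ← hgf f]; exact hf)
    have hw0 := hc.eq_zero_of_fixes (hsize ▸ hw) (hpull _ hgx) (hpull _ hgy) hζ
    have hgZ : g ∈ P.Z := (π_eq_one P hgM).1 (by rw [← hwg, hw0, hι0])
    by_cases h1 : (⟨g, hgZ⟩ : ↥P.Z) = 1
    · exact congrArg Subtype.val h1
    · exact absurd (P.fix_Z h1 hgx) (fun h0 => hc.xv_ne (hφinj (h0.trans (map_zero φ).symm)))
  intro g hgx hgy z
  suffices hg1 : g = 1 by rw [hg1, one_smul]
  choose iinv hiinv hιinv using hι.surj
  set T : ℕ → ℕ := fun w => iinv (P.conj g (ι w)) with hT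
  have hTlt : ∀ w, T w < 2 ^ (2 * c.n) := fun w => hiinv _
  have hTι : ∀ w, ι (T w) = P.conj g (ι w) := fun w => hιinv _
  have hback : ∀ w < 2 ^ (2 * c.n), ∀ v < 2 ^ (2 * c.n), P.conj g (ι w) = ι v → T w = v :=
    fun w _ v hv h => hι.inj _ (hTlt w) _ hv ((hTι w).trans h)
  have hconjX : ∀ w (f : c.Vec), g • (X (ι w) : A) • φ f =
      ((MulAut.conjNormal g (X (ι w)) : ↥P.M) : A) • g • φ f := fun w f => by
    rw [← mul_smul, ← mul_smul, MulAut.conjNormal_apply, inv_mul_cancel_right]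
  have hπconj : ∀ w, π P (MulAut.conjNormal g (X (ι w))) = ι (T w) := fun w => by
    rw [hTι, ← hX (ι w), P.conj_mk, hX]
    rfl
  -- the image of the model is invariant
  let G : c.Vec →ₗ[ZMod c.p] V := (P.op (hgC g)).comp φ
  have hG : ∀ f, G f = g • φ f := fun f => rfl
  have hrange : ∀ f, G f ∈ LinearMap.range φ := by
    intro f
    refine Submodule.span_le (p := (LinearMap.range φ).comap G) |>.2 ?_ (hc.mem_span f)
    rintro u ⟨w, hw, rfl⟩
    rw [hsize] at hw
    obtain ⟨ζ, hζ, hwf⟩ := hword w hw (X (ι w)) (hX _)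
    obtain ⟨ζ', -, hwf'⟩ := hword (T w) (hTlt w) _ (hπconj w)
    refine ⟨(ζ⁻¹ * ζ') • op c.minus (T w) c.xv, ?_⟩
    rw [hG, show φ (op c.minus w c.xv) = ζ⁻¹ • ((X (ι w) : A) • φ c.xv) by
      rw [hwf, inv_smul_smul₀ hζ], P.linear g (hgC g), hconjX, hgx, hwf', map_smul, smul_smul]
  choose gm hgm using hrange
  have hgm' : ∀ f, φ (gm f) = g • φ f := hgm
  let gl : c.Vec →ₗ[ZMod c.p] c.Vec :=
    { toFun := gm
      map_add' := fun a b => hφinj (by rw [map_add, hgm', hgm', hgm', map_add, smul_add])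
      map_smul' := fun r a => hφinj (by
        rw [RingHom.id_apply, map_smul, hgm', hgm', map_smul, P.linear g (hgC g)]) }
  have hgl : ∀ f, φ (gl f) = g • φ f := hgm
  have hbij : Function.Bijective gl := by
    have hinj : Function.Injective gl := fun a b hab => hφinj (MulAction.injective g (by
      show g • φ a = g • φ b
      rw [← hgl, ← hgl, hab]))
    exact ⟨hinj, Finite.injective_iff_surjective.1 hinj⟩
  have hrel : ∀ w < 2 ^ (2 * c.n), ∃ ζ : ZMod c.p, ∀ f,
      gl (op c.minus w f) = ζ • op c.minus (T w) (gl f) := by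
    intro w hw
    obtain ⟨ζ, hζ, hwf⟩ := hword w hw (X (ι w)) (hX _)
    obtain ⟨ζ', -, hwf'⟩ := hword (T w) (hTlt w) _ (hπconj w)
    refine ⟨ζ⁻¹ * ζ', fun f => hφinj ?_⟩
    rw [hgl, show φ (op c.minus w f) = ζ⁻¹ • ((X (ι w) : A) • φ f) by
      rw [hwf, inv_smul_smul₀ hζ], P.linear g (hgC g), hconjX, ← hgl, hwf', map_smul, smul_smul]
  choose! ζ hrel using hrel
  have hxfix : gl c.xv = c.xv := hφinj (by rw [hgl, hgx])
  have hyfix : gl c.yv = c.yv := hφinj (by rw [hgl, hgy])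
  have hsq : ∀ w < c.size, ζ w ^ 2 = 1 ∨ ζ w ^ 2 = -1 := by
    intro w hw
    rw [hsize] at hw
    obtain ⟨s, hs, hop⟩ := op_op (F := ZMod c.p) c.minus h3 hι.le hw hw
    obtain ⟨s', hs', hop'⟩ := op_op (F := ZMod c.p) c.minus h3 hι.le (hTlt w) (hTlt w)
    have h1 : gl (op c.minus w (op c.minus w c.xv)) = (ζ w ^ 2 * s') • c.xv := by
      rw [hrel w hw, hrel w hw, map_smul, smul_smul, hop', Nat.xor_self, op_zero _ _ fun _ => hn1,
        hxfix, smul_smul, sq]
    rw [hop, Nat.xor_self, op_zero _ _ fun _ => hn1, map_smul, hxfix] at h1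
    have h2 := smul_left_injective (ZMod c.p) hc.xv_ne h1
    rcases hs with rfl | rfl <;> rcases hs' with rfl | rfl <;>
      first | (left; linear_combination -h2) | (right; linear_combination -h2) |
        (left; linear_combination h2) | (right; linear_combination h2)
  have hxor : ∀ v < c.size, ∀ w < c.size, T (v ^^^ w) = T v ^^^ T w := fun v hv w hw => by
    rw [hsize] at hv hw
    refine hback _ (Nat.xor_lt_two_pow hv hw) _ (Nat.xor_lt_two_pow (hTlt v) (hTlt w)) ?_
    rw [hι.xor, hι.xor, map_mul, hTι, hTι]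
  have hom : ∀ v < c.size, ∀ w < c.size, c.om (T v) (T w) = c.om v w := fun v hv w hw => by
    rw [hsize] at hv hw
    show omn c.n (T v) (T w) = omn c.n v w
    have e := hι.form _ (hTlt v) _ (hTlt w)
    rw [hTι, hTι, P.form_conj (hgC g), hι.form v hv w hw] at e
    have h1 : omn c.n v w < 2 := Nat.mod_lt _ two_pos
    have h2 : omn c.n (T v) (T w) < 2 := Nat.mod_lt _ two_pos
    simp only [sgnU] at e
    split_ifs at e with a b b
    · omega
    · exact absurd e h21
    · exact absurd e.symm h21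
    · omega
  have hleaf := hc.leafSpec gl hbij T (fun w _ => hsize ▸ hTlt w) hxor hom ζ hsq
    (fun w hw f => hrel w (hsize ▸ hw) f) hxfix hyfix
  have hTconj : ∀ w, P.conj g w = ι (T (iinv w)) := fun w => by rw [hTι, hιinv]
  rcases hleaf with hall | ⟨hp3, hor⟩
  · refine hid g hgx hgy (MulEquiv.ext fun w => ?_)
    rw [hTconj, hall _ (hsize ▸ hiinv w), hιinv]
    rfl
  have hdvdV : 3 ∣ Nat.card V := by
    rw [Module.natCard_eq_pow_finrank (K := ZMod c.p), Nat.card_zmod]
    exact hp3.symm.dvd.trans (dvd_pow_self c.p Module.finrank_pos.ne')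
  have h3A : ¬ 3 ∣ Nat.card A := fun h => by
    have := Nat.dvd_gcd h hdvdV
    rw [hcop] at this
    omega
  rcases hor with h3T | ⟨hn23, h2T, hcount⟩
  · have hg3 : g ^ 3 = 1 := by
      refine hid _ ?_ ?_ (MulEquiv.ext fun w => ?_)
      · rw [pow_three, mul_smul, mul_smul, hgx, hgx, hgx]
      · rw [pow_three, mul_smul, mul_smul, hgy, hgy, hgy]
      · rw [map_pow, pow_three, MulAut.mul_apply, MulAut.mul_apply, ← hιinv w, ← hTι, ← hTι, ← hTι,
          h3T _ (hsize ▸ hiinv w)]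
        rfl
    by_contra hg1
    haveI : Fact (Nat.Prime 3) := ⟨Nat.prime_three⟩
    exact h3A (orderOf_eq_prime hg3 hg1 ▸ orderOf_dvd_natCard g)
  exfalso
  haveI : Group.IsSolvable P.conj.range :=
    Group.isSolvable_of_surjective P.conj.rangeRestrict_surjective
  have hWcard : Nat.card P.W = 4 ^ c.n := hι.card
  refine no_invol P.form P.halt P.nondeg hexp hn23 hWcard P.conj.range inferInstance
    (fun h => h3A (h.trans (Subgroup.card_range_dvd _))) ?_ (fun S hS hSiso => hiso S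
      (fun a s hs => hS _ ⟨a, rfl⟩ s hs) hSiso) (t := P.conj g) ⟨g, rfl⟩ ?_ ?_
  · rintro _ ⟨a, rfl⟩ x y
    exact P.form_conj (hgC a) x y
  · refine MulEquiv.ext fun w => ?_
    rw [MulAut.mul_apply, ← hιinv w, ← hTι, ← hTι, h2T _ (hsize ▸ hiinv w)]
    rfl
  · rw [← hcount]
    haveI := Fintype.ofFinite P.W
    rw [Nat.card_eq_fintype_card, Fintype.card_subtype]
    symm
    refine Finset.card_bij (fun w _ => ι w) (fun w hw => ?_) (fun a ha b hb h => ?_) (fun x hx => ?_)
    · simp only [Finset.mem_filter, Finset.mem_range] at hw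
      simp only [Finset.mem_filter, Finset.mem_univ, true_and]
      rw [← hTι, hw.2]
    · simp only [Finset.mem_filter, Finset.mem_range, hsize] at ha hb
      exact hι.inj _ ha.1 _ hb.1 h
    · simp only [Finset.mem_filter, Finset.mem_univ, true_and] at hx
      refine ⟨iinv x, ?_, hιinv x⟩
      simp only [Finset.mem_filter, Finset.mem_range, hsize]
      exact ⟨hiinv x, hback _ (hiinv x) _ (hiinv x) (by rw [hιinv, hx])⟩

end Cfsg.Agent.CoprimeBase.Small
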