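/-!
# Certificates for two points with trivial stabiliser in a small Pauli group normaliser

The model: functions on `2 ^ n` points with values modulo `p`, and for `w < 4 ^ n` a signed
permutation (`plus`) or a signed permutation tensor a two dimensional quaternion action.

* `Cert.colour`: the projective four-tuple of a word.
* `Cert.search`: every symplectic linear map compatible with the colours meets the leaf criterion.
-/

set_option autoImplicit false

namespace Cfsg.Agent.CoprimeBase.Small

/-- Parity of the number of binary digits equal to one, below `64`. -/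
def par (x : Nat) : Nat := (0x6996966996696996 >>> x) &&& 1

/-- A certificate. -/
structure Cert where
  p : Nat
  n : Nat
  minus : Bool
  x : Nat
  y : Nat
  bas : List Nat
  words : List Nat
  inv : List Nat
  table : Nat

namespace Cert

variable (c : Cert)

/-- The number of points. -/
def dim : Nat := 2 ^ c.n

/-- The number of words. -/
def size : Nat := 2 ^ c.n * 2 ^ c.n

/-- The first half of a word. -/
def fstHalf (w : Nat) : Nat := w &&& (2 ^ c.n - 1)

/-- The second half of a word. -/
def sndHalf (w : Nat) : Nat := w >>> c.n

/-- The pairing. -/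
def om (u v : Nat) : Nat :=
  (par (c.fstHalf u &&& c.sndHalf v) + par (c.fstHalf v &&& c.sndHalf u)) % 2

/-- Reading a packed vector. -/
def vec (f z : Nat) : Nat := (f >>> (3 * z)) &&& 7

/-- The sign of a point. -/
def sgn (b z : Nat) : Nat := if par (b &&& z) = 1 then c.p - 1 else 1

/-- The action of a word. -/
def app (w : Nat) (f : Nat → Nat) (z : Nat) : Nat :=
  if c.minus then
    let a := c.fstHalf w
    let b := c.sndHalf w
    let t := (z >>> 1) ^^^ (a >>> 1)
    let f0 := f (2 * t)
    let f1 := f (2 * t + 1)
    let g0 := if a &&& 1 = 1 then (c.p - 1) * f1 else f0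
    let g1 := if a &&& 1 = 1 then f0 else f1
    let h0 := if b &&& 1 = 1 then g0 + g1 else g0
    let h1 := if b &&& 1 = 1 then g0 + (c.p - 1) * g1 else g1
    c.sgn (b >>> 1) (z >>> 1) * (if z &&& 1 = 1 then h1 else h0) % c.p
  else c.sgn (c.sndHalf w) z * f (z ^^^ c.fstHalf w) % c.p

/-- The bilinear form. -/
def form (f g : Nat → Nat) : Nat :=
  (List.range c.dim).foldl (fun s z => s + f z *
    (if c.minus then (if z &&& 1 = 1 then (c.p - 1) * g (z - 1) else g (z + 1)) else g z)) 0 % c.p

/-- The four values of a word. -/
def quad (w : Nat) : List Nat :=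
  [c.form (c.app w (vec c.x)) (vec c.x), c.form (c.app w (vec c.x)) (vec c.y),
    c.form (c.app w (vec c.y)) (vec c.x), c.form (c.app w (vec c.y)) (vec c.y)]

/-- Scaling a tuple. -/
def scaled (l : Nat) (q : List Nat) : List Nat := q.map fun a => l * a % c.p

/-- The code of a tuple. -/
def code (q : List Nat) : Nat := q.foldl (fun s a => s * c.p + a) 0

/-- The projective code of a tuple. -/
def colourOf (q : List Nat) : Nat :=
  (List.range (c.p - 1)).foldl (fun m l => Nat.min m (c.code (c.scaled (l + 1) q))) (c.p ^ 4)

/-- The colour of a word. -/
def colour (w : Nat) : Nat := (c.table >>> (10 * w)) &&& 1023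

/-- The table is right. -/
def tableOK : Bool := (List.range c.size).all fun w => c.colour w == c.colourOf (c.quad w)

/-- No nontrivial word fixes both points up to a common scalar. -/
def pauliOK : Bool :=
  (List.range c.size).all fun w => w == 0 || (List.range (c.p - 1)).all fun l =>
    !((List.range c.dim).all fun z => (l + 1) * c.app w (vec c.x) z % c.p == vec c.x z &&
      (l + 1) * c.app w (vec c.y) z % c.p == vec c.y z)

/-- The orbit of the first point spans. -/
def spanOK : Bool :=
  (List.range c.dim).all fun z => (List.range c.dim).all fun z' =>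
    (List.range c.dim).foldl (fun s i =>
      s + vec (c.inv.getD z 0) i * c.app (c.words.getD i 0) (vec c.x) z') 0 % c.p ==
      (if z = z' then 1 else 0)

/-- The combinations of the basis. -/
def spanList : List Nat → List Nat
  | [] => [0]
  | d :: ds => let l := spanList ds; l ++ l.map (d ^^^ ·)

/-- The basis spans. -/
def basOK : Bool :=
  (spanList c.bas).foldl (fun m w => m ||| (1 <<< w)) 0 == 2 ^ c.size - 1

/-- Reading a map given by pairs. -/
def lookup (sp : List (Nat × Nat)) (w : Nat) : Nat :=
  match sp.find? fun e => e.1 == w with
  | some e => e.2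
  | none => 0

/-- The leaf criterion: the identity, or a map of order three, or for `n ≤ 3` an involution fixing
exactly `2 ^ (n + 1)` points. -/
def leaf (sp : List (Nat × Nat)) : Bool :=
  sp.all (fun e => e.1 == e.2) ||
    (c.p == 3 &&
      (sp.all (fun e => lookup sp (lookup sp e.2) == e.1) ||
        ((c.n == 2 || c.n == 3) && sp.all (fun e => lookup sp e.2 == e.1) &&
          (sp.filter fun e => e.1 == e.2).length == 2 ^ (c.n + 1))))

/-- The search below one partial map. -/
def go (u : Nat) : List Nat → List (Nat × Nat) → List (Nat × Nat) → Bool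
  | [], _, sp => c.leaf sp
  | d :: ds, img, sp => (List.range c.size).all fun w =>
      !(c.colour w == c.colour (u ^^^ d)) ||
      !(img.all fun e => c.om d e.1 == c.om w e.2) ||
      !(sp.all fun e => c.colour (e.2 ^^^ w) == c.colour (u ^^^ (e.1 ^^^ d))) ||
      go u ds ((d, w) :: img) (sp ++ sp.map fun e => (e.1 ^^^ d, e.2 ^^^ w))

/-- The shifts allowed. -/
def shifts : List Nat := if c.p = 3 then [0] else List.range c.size

/-- The search. -/
def search : Bool :=
  c.shifts.all fun u => !(c.colour 0 == c.colour u) || c.go u c.bas [] [(0, 0)]

end Cert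

end Cfsg.Agent.CoprimeBase.Small
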