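import Cfsg.Agent.Lib.CoprimeBase.Small.Model

/-!
# Forms invariant up to sign under the operators of all words

* `classify`: such a form is a multiple of the twist of the invariant form by one word, and by the
  trivial word when all signs are `1`.
-/

set_option autoImplicit false

namespace Cfsg.Agent.CoprimeBase.Small

theorem word_split {n a b : ℕ} (ha : a < 2 ^ n) :
    (a + b * 2 ^ n) &&& (2 ^ n - 1) = a ∧ (a + b * 2 ^ n) >>> n = b := by
  rw [Nat.and_two_pow_sub_one_eq_mod, Nat.shiftRight_eq_div_pow, Nat.add_mul_mod_self_right,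
    Nat.add_mul_div_right _ _ (Nat.two_pow_pos n), Nat.mod_eq_of_lt ha, Nat.div_eq_of_lt ha, zero_add]
  exact ⟨rfl, rfl⟩

theorem word_lt {n a b : ℕ} (ha : a < 2 ^ n) (hb : b < 2 ^ n) : a + b * 2 ^ n < 2 ^ (2 * n) := by
  rw [two_mul, pow_add]
  calc a + b * 2 ^ n < 2 ^ n + b * 2 ^ n := Nat.add_lt_add_right ha _
    _ = (b + 1) * 2 ^ n := by ring
    _ ≤ _ := Nat.mul_le_mul_right _ hb

variable {F : Type} [Field F] {n : ℕ}

/-- The indicator of a point. -/
def delta (z : Fin (2 ^ n)) : Fin (2 ^ n) → F := Pi.single z 1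

theorem delta_apply (z x : Fin (2 ^ n)) : (delta z : Fin (2 ^ n) → F) x = if x = z then 1 else 0 :=
  Pi.single_apply z 1 x

theorem ext_delta (z : Fin (2 ^ n)) (i : ℕ) :
    ext (delta z : Fin (2 ^ n) → F) i = if i = z then 1 else 0 := by
  unfold ext
  split_ifs with h1 h2 h3
  · subst h2; simp [delta_apply]
  · rw [delta_apply, if_neg fun h => h2 (congrArg Fin.val h)]
  · exact absurd (h3 ▸ z.2) h1
  · rfl

theorem bilin_ext {B C : (Fin (2 ^ n) → F) →ₗ[F] (Fin (2 ^ n) → F) →ₗ[F] F}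
    (h : ∀ z z', B (delta z) (delta z') = C (delta z) (delta z')) : B = C :=
  (Pi.basisFun F (Fin (2 ^ n))).ext fun z => (Pi.basisFun F (Fin (2 ^ n))).ext fun z' => by
    simpa [Pi.basisFun_apply, delta] using h z z'

theorem ne_of_two {F : Type} [Field F] (h2 : (2 : F) ≠ 0) : (-1 : F) ≠ 1 := fun h =>
  h2 (by linear_combination -h)

theorem exists_bit {n t t' : ℕ} (ht : t < 2 ^ n) (ht' : t' < 2 ^ n) (hne : t ≠ t') :
    ∃ i < n, t.testBit i ≠ t'.testBit i := by
  by_contra! h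
  refine hne (Nat.eq_of_testBit_eq fun i => ?_)
  by_cases hi : i < n
  · exact h i hi
  · have hp : 2 ^ n ≤ 2 ^ i := Nat.pow_le_pow_right two_pos (by omega)
    rw [Nat.testBit_lt_two_pow (by omega), Nat.testBit_lt_two_pow (by omega)]

theorem two_pow_and (i x : ℕ) : 2 ^ i &&& x = if x.testBit i then 2 ^ i else 0 := by
  refine Nat.eq_of_testBit_eq fun j => ?_
  rw [Nat.testBit_and, Nat.testBit_two_pow]
  by_cases h : i = j
  · subst h; split_ifs with h' <;> simp [h']
  · split_ifs with h' <;> simp [h]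

theorem ps_two_pow_and (h6 : n ≤ 6) {i : ℕ} (hi : i < n) (x : ℕ) :
    (ps (2 ^ i &&& x) : F) = if x.testBit i then -1 else 1 := by
  rw [two_pow_and]
  split_ifs
  · simp [ps, par_two_pow i (by omega)]
  · exact ps_zero

/-- A sign character of the first halves. -/
theorem exists_char (h6 : n ≤ 6) (ε : ℕ → F) (hε : ∀ a < 2 ^ n, ε a = 1 ∨ ε a = -1)
    (hmul : ∀ a < 2 ^ n, ∀ a' < 2 ^ n, ε (a ^^^ a') = ε a * ε a') :
    ∀ k ≤ n, ∃ s < 2 ^ k, ∀ a < 2 ^ k, ε a = ps (s &&& a) := by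
  intro k
  induction k with
  | zero =>
    intro _
    refine ⟨0, by simp, fun a ha => ?_⟩
    rw [show a = 0 by simpa using ha, Nat.and_self, ps_zero]
    have h := hmul 0 (Nat.two_pow_pos n) 0 (Nat.two_pow_pos n)
    rw [Nat.xor_self] at h
    rcases hε 0 (Nat.two_pow_pos n) with h' | h'
    · exact h'
    · rw [h'] at h ⊢; rw [h]; ring
  | succ k ih =>
    intro hk
    obtain ⟨s, hs, hsa⟩ := ih (by omega)
    have hkn : 2 ^ k < 2 ^ n := Nat.pow_lt_pow_right one_lt_two (by omega)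
    obtain ⟨d, hd, hdk⟩ : ∃ d, (d = 0 ∨ d = 2 ^ k) ∧ ε (2 ^ k) = ps (d &&& 2 ^ k) := by
      rcases hε _ hkn with h | h
      · exact ⟨0, Or.inl rfl, by rw [h, Nat.zero_and, ps_zero]⟩
      · exact ⟨2 ^ k, Or.inr rfl, by rw [h, Nat.and_self]; simp [ps, par_two_pow k (by omega)]⟩
    have hd' : d < 2 ^ (k + 1) := by
      rcases hd with rfl | rfl
      · exact Nat.two_pow_pos _
      · exact Nat.pow_lt_pow_right one_lt_two (by omega)
    have h64 : ∀ x, x < 2 ^ (k + 1) → ∀ y, x &&& y < 64 := fun x hx y =>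
      and_xor_lt h6 (hx.trans_le (Nat.pow_le_pow_right two_pos hk)) y
    refine ⟨s ^^^ d, Nat.xor_lt_two_pow (hs.trans (Nat.pow_lt_pow_right one_lt_two (by omega))) hd',
      fun a ha => ?_⟩
    have hs' : s < 2 ^ (k + 1) := hs.trans (Nat.pow_lt_pow_right one_lt_two (by omega))
    rw [Nat.and_xor_distrib_right, ps_xor (h64 s hs' a) (h64 d hd' a)]
    by_cases hlt : a < 2 ^ k
    · rw [hsa a hlt, show d &&& a = 0 from ?_, ps_zero, mul_one]
      rcases hd with rfl | rfl
      · exact Nat.zero_and a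
      · rw [two_pow_and, Nat.testBit_lt_two_pow hlt]; simp
    · set a' := a ^^^ 2 ^ k with ha'
      have hbit : a.testBit k = true := by
        rw [Nat.testBit_eq_decide_div_mod_eq,
          show a / 2 ^ k = 1 from Nat.div_eq_of_lt_le (by omega) (by rw [pow_succ] at ha; omega)]
        rfl
      have ha'lt : a' < 2 ^ k := by
        refine Nat.lt_pow_two_of_testBit _ fun i hi => ?_
        rw [ha', Nat.testBit_xor, Nat.testBit_two_pow]
        rcases eq_or_lt_of_le hi with rfl | hi'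
        · simp [hbit]
        · rw [Nat.testBit_lt_two_pow (ha.trans_le (Nat.pow_le_pow_right two_pos hi'))]
          simp; omega
      have haa : a = a' ^^^ 2 ^ k := by rw [ha', Nat.xor_assoc, Nat.xor_self, Nat.xor_zero]
      have hda' : d &&& a' = 0 := by
        rcases hd with rfl | rfl
        · exact Nat.zero_and _
        · rw [two_pow_and, Nat.testBit_lt_two_pow ha'lt]; simp
      have hsk : s &&& 2 ^ k = 0 := by
        rw [Nat.and_comm, two_pow_and, Nat.testBit_lt_two_pow hs]; simp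
      clear_value a'
      subst haa
      rw [hmul a' (ha'lt.trans hkn) _ hkn, hsa a' ha'lt, hdk, Nat.and_xor_distrib_left,
        Nat.and_xor_distrib_left, hda', hsk, Nat.xor_zero, Nat.zero_xor]

theorem opFun_plus_delta {a b : ℕ} (ha : a < 2 ^ n) (z : Fin (2 ^ n)) :
    op false (a + b * 2 ^ n) (delta z : Fin (2 ^ n) → F) =
      (ps (b &&& ((z : ℕ) ^^^ a)) : F) • delta ⟨(z : ℕ) ^^^ a, Nat.xor_lt_two_pow z.2 ha⟩ := by
  funext x
  obtain ⟨e1, e2⟩ := word_split (b := b) ha
  rw [op_apply]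
  simp only [opFun, Bool.false_eq_true, if_false, e1, e2, ext_delta, Pi.smul_apply, smul_eq_mul,
    delta_apply, Fin.ext_iff]
  by_cases h : (x : ℕ) ^^^ a = z
  · have h' : (x : ℕ) = (z : ℕ) ^^^ a := by rw [← h, Nat.xor_assoc, Nat.xor_self, Nat.xor_zero]
    rw [if_pos h, if_pos h', h']
  · rw [if_neg h, if_neg (fun h' : (x : ℕ) = (z : ℕ) ^^^ a =>
      h (by rw [h', Nat.xor_assoc, Nat.xor_self, Nat.xor_zero]))]
    ring

theorem frm_plus_delta (z z' : Fin (2 ^ n)) :
    frm false (delta z : Fin (2 ^ n) → F) (delta z') = if z = z' then 1 else 0 := by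
  rw [frm_apply, Finset.sum_eq_single z (fun x _ hx => by simp [delta_apply, hx]) (by simp)]
  simp [delta_apply]

theorem classify_plus (h6 : n ≤ 6) (h2 : (2 : F) ≠ 0) (ε : ℕ → F)
    (hε : ∀ w < 2 ^ (2 * n), ε w = 1 ∨ ε w = -1)
    (β : (Fin (2 ^ n) → F) →ₗ[F] (Fin (2 ^ n) → F) →ₗ[F] F) (hne : β ≠ 0)
    (hinv : ∀ w < 2 ^ (2 * n), ∀ f g, β (op false w f) (op false w g) = ε w * β f g) :
    ∃ lam : F, lam ≠ 0 ∧ ∃ u < 2 ^ (2 * n), ((∀ w < 2 ^ (2 * n), ε w = 1) → u = 0) ∧
      ∀ f g, β f g = lam * frm false (op false u f) g := by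
  classical
  set β0 := fun z z' : Fin (2 ^ n) => β (delta z) (delta z') with hβ0
  obtain ⟨z0, z0', h00⟩ : ∃ z z', β0 z z' ≠ 0 := by
    by_contra! h
    exact hne (bilin_ext fun z z' => by simpa using h z z')
  set t := (z0 : ℕ) ^^^ z0' with ht
  have htlt : t < 2 ^ n := Nat.xor_lt_two_pow z0.2 z0'.2
  have hb2 : ∀ b < 2 ^ n, b * 2 ^ n < 2 ^ (2 * n) := fun b hb => by
    have := word_lt (Nat.two_pow_pos n) hb
    simpa using this
  have hdiag : ∀ b < 2 ^ n, ∀ z z', β0 z z' ≠ 0 → ps (b &&& (z : ℕ)) * ps (b &&& (z' : ℕ)) = ε (b * 2 ^ n) := by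
    intro b hb z z' hz
    have h := hinv (0 + b * 2 ^ n) (word_lt (Nat.two_pow_pos n) hb) (delta z) (delta z')
    rw [opFun_plus_delta (Nat.two_pow_pos n), opFun_plus_delta (Nat.two_pow_pos n)] at h
    simp only [map_smul, LinearMap.smul_apply, smul_eq_mul, Nat.xor_zero, zero_add, Fin.eta] at h
    refine mul_right_cancel₀ hz ?_
    show _ * β (delta z) (delta z') = _ * β (delta z) (delta z')
    linear_combination h
  have hsupp : ∀ z z' : Fin (2 ^ n), β0 z z' ≠ 0 → (z : ℕ) ^^^ z' = t := by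
    intro z z' hz
    by_contra hne'
    obtain ⟨i, hi, hbit⟩ := exists_bit (Nat.xor_lt_two_pow z.2 z'.2) htlt hne'
    have hi' : 2 ^ i < 2 ^ n := Nat.pow_lt_pow_right one_lt_two hi
    have e1 := hdiag _ hi' z z' hz
    rw [← hdiag _ hi' z0 z0' h00, ← ps_xor (and_xor_lt h6 hi' _) (and_xor_lt h6 hi' _),
      ← ps_xor (and_xor_lt h6 hi' _) (and_xor_lt h6 hi' _), ← Nat.and_xor_distrib_left,
      ← Nat.and_xor_distrib_left, ← ht, ps_two_pow_and h6 hi, ps_two_pow_and h6 hi] at e1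
    have hn1 := ne_of_two h2
    split_ifs at e1 with a b b
    · exact hbit (a.trans b.symm)
    · exact hn1 e1
    · exact hn1 e1.symm
    · exact hbit (by simp [Bool.eq_false_iff.2 a, Bool.eq_false_iff.2 b])
  have hmove : ∀ a < 2 ^ n, ∀ z z' : Fin (2 ^ n), ∀ x x' : Fin (2 ^ n), (x : ℕ) = (z : ℕ) ^^^ a →
      (x' : ℕ) = (z' : ℕ) ^^^ a → β0 x x' = ε a * β0 z z' := by
    intro a ha z z' x x' hx hx'
    have h := hinv (a + 0 * 2 ^ n) (word_lt ha (Nat.two_pow_pos n)) (delta z) (delta z')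
    rw [opFun_plus_delta ha, opFun_plus_delta ha] at h
    simp only [map_smul, LinearMap.smul_apply, smul_eq_mul, Nat.zero_and, ps_zero, one_mul, zero_mul,
      add_zero] at h
    rwa [← Fin.ext (a := x) (b := ⟨_, Nat.xor_lt_two_pow z.2 ha⟩) hx,
      ← Fin.ext (a := x') (b := ⟨_, Nat.xor_lt_two_pow z'.2 ha⟩) hx'] at h
  set o : Fin (2 ^ n) := ⟨0, Nat.two_pow_pos n⟩
  set tt : Fin (2 ^ n) := ⟨t, htlt⟩
  have hl : β0 o tt ≠ 0 := by
    intro h
    refine h00 ?_
    rw [hmove z0 z0.2 o tt z0 z0' (Nat.zero_xor _).symm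
      (by show (z0' : ℕ) = t ^^^ z0; rw [ht, Nat.xor_comm (z0 : ℕ), Nat.xor_assoc, Nat.xor_self,
        Nat.xor_zero]), h, mul_zero]
  have hhalf : ∀ a < 2 ^ n, a < 2 ^ (2 * n) := fun a ha =>
    ha.trans_le (Nat.pow_le_pow_right two_pos (by omega))
  have hmul : ∀ a < 2 ^ n, ∀ a' < 2 ^ n, ε (a ^^^ a') = ε a * ε a' := by
    intro a ha a' ha'
    refine mul_right_cancel₀ hl ?_
    have h1 : β0 ⟨a', ha'⟩ ⟨t ^^^ a', Nat.xor_lt_two_pow htlt ha'⟩ = ε a' * β0 o tt :=
      hmove a' ha' o tt _ _ (Nat.zero_xor _).symm rfl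
    have h2' := hmove a ha ⟨a', ha'⟩ ⟨t ^^^ a', Nat.xor_lt_two_pow htlt ha'⟩
      ⟨a' ^^^ a, Nat.xor_lt_two_pow ha' ha⟩
      ⟨t ^^^ a' ^^^ a, Nat.xor_lt_two_pow (Nat.xor_lt_two_pow htlt ha') ha⟩ rfl rfl
    have h3' := hmove (a ^^^ a') (Nat.xor_lt_two_pow ha ha') o tt
      ⟨a' ^^^ a, Nat.xor_lt_two_pow ha' ha⟩
      ⟨t ^^^ a' ^^^ a, Nat.xor_lt_two_pow (Nat.xor_lt_two_pow htlt ha') ha⟩
      (by show a' ^^^ a = 0 ^^^ _; rw [Nat.zero_xor, Nat.xor_comm])
      (by show t ^^^ a' ^^^ a = t ^^^ _; rw [Nat.xor_assoc, Nat.xor_comm a'])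
    rw [h1] at h2'
    rw [mul_assoc, ← h2', ← h3']
  obtain ⟨s, hs, hsa⟩ := exists_char h6 ε (fun a ha => hε a (hhalf a ha)) hmul n le_rfl
  refine ⟨ps (s &&& t) * β0 o tt, mul_ne_zero (fun h => ?_) hl, t + s * 2 ^ n, word_lt htlt hs,
    fun hall => ?_, ?_⟩
  · have := ps_mul_self (F := F) (s &&& t)
    rw [h, mul_zero] at this
    exact zero_ne_one this
  · have hs0 : s = 0 := by
      by_contra hne'
      obtain ⟨i, hi, hb⟩ := exists_bit hs (Nat.two_pow_pos n) hne'
      have hi' : 2 ^ i < 2 ^ n := Nat.pow_lt_pow_right one_lt_two hi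
      have h1 := hsa _ hi'
      rw [hall _ (hhalf _ hi'), Nat.and_comm, ps_two_pow_and h6 hi] at h1
      rw [Nat.zero_testBit] at hb
      rw [if_pos (by simpa using hb)] at h1
      exact ne_of_two h2 h1.symm
    have ht0 : t = 0 := by
      by_contra hne'
      obtain ⟨i, hi, hb⟩ := exists_bit htlt (Nat.two_pow_pos n) hne'
      have hi' : 2 ^ i < 2 ^ n := Nat.pow_lt_pow_right one_lt_two hi
      have h1 := hdiag _ hi' z0 z0' h00
      rw [hall _ (hb2 _ hi'), ← ps_xor (and_xor_lt h6 hi' _) (and_xor_lt h6 hi' _),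
        ← Nat.and_xor_distrib_left, ← ht, ps_two_pow_and h6 hi] at h1
      rw [Nat.zero_testBit] at hb
      rw [if_pos (by simpa using hb)] at h1
      exact ne_of_two h2 h1
    simp [hs0, ht0]
  · have hB : β = (ps (s &&& t) * β0 o tt) • (frm false).comp (op false (t + s * 2 ^ n)) := by
      refine bilin_ext fun z z' => ?_
      simp only [LinearMap.smul_apply, LinearMap.comp_apply, smul_eq_mul]
      rw [opFun_plus_delta htlt, map_smul, LinearMap.smul_apply, smul_eq_mul, frm_plus_delta]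
      show β0 z z' = _
      by_cases hzz : (z : ℕ) ^^^ t = z'
      · rw [if_pos (Fin.ext hzz), mul_one,
          hmove z z.2 o tt z z' (Nat.zero_xor _).symm (by show (z' : ℕ) = t ^^^ z; rw [← hzz, Nat.xor_comm]),
          hsa z z.2, Nat.and_xor_distrib_left (a := s) (b := (z : ℕ)) (c := t),
          ps_xor (and_xor_lt h6 hs _) (and_xor_lt h6 hs _)]
        linear_combination -(ps (s &&& (z : ℕ)) * β0 o tt) * ps_mul_self (F := F) (s &&& t)
      · rw [if_neg (fun h => hzz (congrArg Fin.val h)), mul_zero, mul_zero]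
        by_contra hne'
        exact hzz (by rw [← hsupp z z' hne', ← Nat.xor_assoc, Nat.xor_self, Nat.zero_xor])
    intro f g
    conv_lhs => rw [hB]
    simp

theorem frm_minus_delta (hn : 1 ≤ n) (z z' : Fin (2 ^ n)) :
    frm true (delta z : Fin (2 ^ n) → F) (delta z') =
      if (z : ℕ) &&& 1 = 1 then (if (z' : ℕ) = z - 1 then -1 else 0)
      else (if (z' : ℕ) = z + 1 then 1 else 0) := by
  rw [frm_apply, Finset.sum_eq_single z (fun x _ hx => by simp [delta_apply, hx]) (by simp)]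
  simp only [if_true, delta_apply, ext_delta, one_mul, eq_comm (a := ((z : ℕ) - 1)),
    eq_comm (a := ((z : ℕ) + 1))]
  split_ifs <;> simp

theorem classify_minus (h6 : n ≤ 6) (h1 : 1 ≤ n) (h3 : (3 : F) = 0) (h2 : (2 : F) ≠ 0)
    (β : (Fin (2 ^ n) → F) →ₗ[F] (Fin (2 ^ n) → F) →ₗ[F] F) (hne : β ≠ 0)
    (hinv : ∀ w < 2 ^ (2 * n), ∀ f g, β (op true w f) (op true w g) = β f g) :
    ∃ lam : F, lam ≠ 0 ∧ ∀ f g, β f g = lam * frm true f g := by
  classical
  set β0 := fun z z' : Fin (2 ^ n) => β (delta z) (delta z') with hβ0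
  have hpow : 2 ^ n = 2 * 2 ^ (n - 1) := by rw [← pow_succ', Nat.sub_add_cancel h1]
  have hval : ∀ a b : ℕ, a < 2 ^ n → b < 2 ^ n → ∀ z x : Fin (2 ^ n),
      op true (a + b * 2 ^ n) (delta z : Fin (2 ^ n) → F) x = ps (b >>> 1 &&& (x : ℕ) >>> 1) *
        quat a b (fun e => if 2 * ((x : ℕ) >>> 1 ^^^ a >>> 1) + e = z then (1 : F) else 0) x := by
    intro a b ha hb z x
    obtain ⟨e1, e2⟩ := word_split (b := b) ha
    rw [op_apply]
    simp only [opFun, if_true, e1, e2, ext_delta]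
  have hparts : ∀ x : Fin (2 ^ n), 2 * ((x : ℕ) >>> 1) + ((x : ℕ) &&& 1) = x := fun x => by
    rw [Nat.and_one_is_mod, Nat.shiftRight_eq_div_pow]; omega
  have hhigh : ∀ c < 2 ^ (n - 1), ∀ z : Fin (2 ^ n),
      op true (0 + 2 * c * 2 ^ n) (delta z : Fin (2 ^ n) → F) = (ps (c &&& (z : ℕ) >>> 1) : F) • delta z := by
    intro c hc z
    funext x
    rw [hval 0 (2 * c) (Nat.two_pow_pos n) (by omega) z x, Pi.smul_apply, delta_apply, smul_eq_mul,
      show (2 * c) >>> 1 = c by rw [Nat.shiftRight_eq_div_pow]; omega, Nat.zero_shiftRight, Nat.xor_zero]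
    have hb0 : (2 * c) &&& 1 = 0 := by rw [Nat.and_one_is_mod]; omega
    simp only [quat, Nat.zero_and, zero_ne_one, if_false, hb0, Fin.ext_iff]
    have hp := hparts x
    rcases and_one_cases (x : ℕ) with hx | hx <;> rw [hx] at hp ⊢ <;>
      simp only [zero_ne_one, if_false, if_true] <;> rw [hp] <;> split_ifs with h <;> simp [h]
  have hsupp : ∀ z z', β0 z z' ≠ 0 → (z : ℕ) >>> 1 = (z' : ℕ) >>> 1 := by
    intro z z' hz
    by_contra hne'
    obtain ⟨i, hi, hb⟩ := exists_bit (half_lt z.2 h1) (half_lt z'.2 h1) hne'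
    have hi' : 2 ^ i < 2 ^ (n - 1) := Nat.pow_lt_pow_right one_lt_two hi
    have h := hinv (0 + 2 * 2 ^ i * 2 ^ n) (word_lt (Nat.two_pow_pos n) (by omega)) (delta z) (delta z')
    rw [hhigh _ hi', hhigh _ hi'] at h
    simp only [map_smul, LinearMap.smul_apply, smul_eq_mul] at h
    rw [ps_two_pow_and (n := n) h6 (by omega), ps_two_pow_and (n := n) h6 (by omega)] at h
    refine hz ?_
    split_ifs at h with a b b
    · exact absurd (b.trans a.symm) hb
    · exact (mul_eq_zero.1 (show (2 : F) * β0 z z' = 0 by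
        show 2 * β (delta z) (delta z') = 0; linear_combination -h)).resolve_left h2
    · exact (mul_eq_zero.1 (show (2 : F) * β0 z z' = 0 by
        show 2 * β (delta z) (delta z') = 0; linear_combination -h)).resolve_left h2
    · exact absurd (by simp [Bool.eq_false_iff.2 a, Bool.eq_false_iff.2 b]) hb
  have hshift : ∀ c < 2 ^ (n - 1), ∀ z y : Fin (2 ^ n),
      (y : ℕ) = 2 * ((z : ℕ) >>> 1 ^^^ c) + ((z : ℕ) &&& 1) →
      op true (2 * c + 0 * 2 ^ n) (delta z : Fin (2 ^ n) → F) = delta y := by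
    intro c hc z y hy
    funext x
    rw [hval (2 * c) 0 (by omega) (Nat.two_pow_pos n) z x, delta_apply, Nat.zero_shiftRight,
      Nat.zero_and, ps_zero, one_mul, show (2 * c) >>> 1 = c by rw [Nat.shiftRight_eq_div_pow]; omega]
    have ha0 : (2 * c) &&& 1 = 0 := by rw [Nat.and_one_is_mod]; omega
    simp only [quat, Nat.zero_and, zero_ne_one, if_false, ha0]
    have hx2 := hparts x
    have hz2 := hparts z
    have hzc := and_one_cases (z : ℕ)
    have key : ∀ e : ℕ, e = ((x : ℕ) &&& 1) →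
        ((2 * ((x : ℕ) >>> 1 ^^^ c) + e = z) ↔ x = y) := by
      intro e he
      subst he
      rw [Fin.ext_iff, hy]
      constructor
      · intro h
        have hs := congrArg (· >>> 1) h
        have hl := congrArg (· &&& 1) h
        have hxc := shr_two_mul_add (t := (x : ℕ) >>> 1 ^^^ c) (e := (x : ℕ) &&& 1)
          (by rcases and_one_cases (x : ℕ) with h | h <;> omega)
        simp only [hxc.1, hxc.2] at hs hl
        rw [← hs, ← hl, Nat.xor_assoc, Nat.xor_self, Nat.xor_zero]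
        exact hx2.symm
      · intro h
        have hyc := shr_two_mul_add (t := (z : ℕ) >>> 1 ^^^ c) (e := (z : ℕ) &&& 1) (by omega)
        rw [h, hyc.1, hyc.2, Nat.xor_assoc, Nat.xor_self, Nat.xor_zero, hz2]
    rcases and_one_cases (x : ℕ) with hx | hx <;> simp only [hx, zero_ne_one, if_false, if_true] <;>
      rw [if_congr (key _ hx.symm) rfl rfl]
  -- the block at the origin
  have hp0 : (0 : ℕ) < 2 ^ n := Nat.two_pow_pos n
  have hp1 : 1 < 2 ^ n := Nat.one_lt_two_pow (by omega)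
  set o : Fin (2 ^ n) := ⟨0, hp0⟩
  set i1 : Fin (2 ^ n) := ⟨1, hp1⟩
  have hoi : o ≠ i1 := fun h => absurd (congrArg Fin.val h) zero_ne_one
  have cmp : ∀ (w : ℕ) (z : Fin (2 ^ n)) (A B : F), (∀ x : Fin (2 ^ n), op true w (delta z : Fin (2 ^ n) → F) x =
      if x = o then A else if x = i1 then B else 0) → op true w (delta z : Fin (2 ^ n) → F) = A • delta o + B • delta i1 := by
    intro w z A B h
    funext x
    rw [h, Pi.add_apply, Pi.smul_apply, Pi.smul_apply, smul_eq_mul, smul_eq_mul, delta_apply,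
      delta_apply]
    by_cases h1 : x = o
    · subst h1; rw [if_pos rfl, if_pos rfl, if_neg hoi]; ring
    · by_cases h2' : x = i1
      · subst h2'; rw [if_neg h1, if_pos rfl, if_neg h1, if_pos rfl]; ring
      · rw [if_neg h1, if_neg h2', if_neg h1, if_neg h2']; ring
  have hrows : ∀ (a b : ℕ), a ≤ 1 → b ≤ 1 → ∀ z : Fin (2 ^ n), (z : ℕ) ≤ 1 →
      op true (a + b * 2 ^ n) (delta z : Fin (2 ^ n) → F) =
        (quat a b (fun e => if e = z then (1 : F) else 0) 0) • delta o +
        (quat a b (fun e => if e = z then (1 : F) else 0) 1) • delta i1 := by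
    intro a b ha hb z hz
    refine cmp _ _ _ _ fun x => ?_
    have hsh : ∀ m ≤ 1, m >>> 1 = 0 := fun m hm => by rw [Nat.shiftRight_eq_div_pow]; omega
    rw [hval a b (by omega) (by omega) z x, hsh a ha, hsh b hb, Nat.zero_and, ps_zero, one_mul,
      Nat.xor_zero]
    by_cases hx : (x : ℕ) ≤ 1
    · rw [hsh _ hx]
      simp only [mul_zero, zero_add]
      rcases Nat.le_one_iff_eq_zero_or_eq_one.1 hx with h | h
      · rw [if_pos (Fin.ext h), h]
      · rw [if_neg (fun e => by rw [e] at h; exact zero_ne_one h), if_pos (Fin.ext h), h]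
    · rw [if_neg (fun e => hx (by rw [e]; exact Nat.zero_le 1)),
        if_neg (fun e => hx (by rw [e]))]
      have hne' : ∀ e, 2 * ((x : ℕ) >>> 1) + e ≠ z := fun e => by
        rw [Nat.shiftRight_eq_div_pow]; omega
      have h0 : 2 * ((x : ℕ) >>> 1) ≠ z := by simpa using hne' 0
      simp [quat, hne', h0]
  set A := β0 o o
  set B := β0 o i1
  set C := β0 i1 o
  set D := β0 i1 i1
  have ho : (o : ℕ) = 0 := rfl
  have hi : (i1 : ℕ) = 1 := rfl
  have hX : ∀ z z' : Fin (2 ^ n), (z : ℕ) ≤ 1 → (z' : ℕ) ≤ 1 → ∀ a b : ℕ, a ≤ 1 → b ≤ 1 →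
      β (op true (a + b * 2 ^ n) (delta z)) (op true (a + b * 2 ^ n) (delta z')) = β0 z z' :=
    fun z z' _ _ a b ha hb => hinv _ (word_lt (by omega) (by omega)) _ _
  have e1 := hX o o (by omega) (by omega) 1 0 le_rfl (by omega)
  have e2 := hX o i1 (by omega) (by omega) 1 0 le_rfl (by omega)
  have e3 := hX o o (by omega) (by omega) 0 1 (by omega) le_rfl
  rw [hrows 1 0 le_rfl (by omega) o (by omega)] at e1 e2
  rw [hrows 1 0 le_rfl (by omega) i1 (by omega)] at e2
  rw [hrows 0 1 (by omega) le_rfl o (by omega)] at e3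
  simp only [quat, ho, hi, map_add, map_smul, LinearMap.add_apply, LinearMap.smul_apply,
    smul_eq_mul] at e1 e2 e3
  norm_num at e1 e2 e3
  have eD : D = A := e1
  have eC : C = -B := by
    have : -C = B := e2
    linear_combination -this
  have eA : A = 0 := by
    have h : A + C + (B + D) = A := e3
    linear_combination h - eC - eD
  have hblock : ∀ z z' : Fin (2 ^ n), β0 z z' = B * frm true (delta z) (delta z') := by
    intro z z'
    by_cases hs : (z : ℕ) >>> 1 = (z' : ℕ) >>> 1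
    · set c := (z : ℕ) >>> 1 with hc
      have hclt : c < 2 ^ (n - 1) := half_lt z.2 h1
      have he : ∀ v : Fin (2 ^ n), (v : ℕ) &&& 1 < 2 ^ n := fun v => by
        rcases and_one_cases (v : ℕ) with h | h <;> omega
      have hsy : ∀ v : Fin (2 ^ n), (v : ℕ) >>> 1 = c →
          op true (2 * c + 0 * 2 ^ n) (delta v : Fin (2 ^ n) → F) = delta ⟨(v : ℕ) &&& 1, he v⟩ := by
        intro v hv
        refine hshift c hclt v _ ?_
        rw [hv, Nat.xor_self]; simp
      have key : β0 z z' = β0 ⟨(z : ℕ) &&& 1, he z⟩ ⟨(z' : ℕ) &&& 1, he z'⟩ := by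
        show β (delta z) (delta z') = _
        rw [← hinv (2 * c + 0 * 2 ^ n) (word_lt (by omega) hp0) (delta z) (delta z'), hsy z rfl,
          hsy z' hs.symm]
      rw [key, frm_minus_delta h1]
      have hz := hparts z
      have hz' := hparts z'
      rw [← hc] at hz
      rw [← hs] at hz'
      rcases and_one_cases (z : ℕ) with a | a <;> rcases and_one_cases (z' : ℕ) with b | b <;>
        simp only [a, b, zero_ne_one, if_false, if_true]
      · rw [if_neg (by omega), mul_zero]; exact eA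
      · rw [if_pos (by omega), mul_one]
      · rw [if_pos (by omega)]; show C = _; rw [eC]; ring
      · rw [if_neg (by omega), mul_zero]; exact eD.trans eA
    · rw [show β0 z z' = 0 by by_contra h; exact hs (hsupp z z' h), frm_minus_delta h1]
      have hz := hparts z
      have hz' := hparts z'
      rcases and_one_cases (z : ℕ) with a | a <;> rcases and_one_cases (z' : ℕ) with b | b <;>
        simp only [a, zero_ne_one, if_false, if_true] <;> rw [if_neg (by omega), mul_zero]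
  have hB : β = B • frm true := bilin_ext fun z z' => by
    simp only [LinearMap.smul_apply, smul_eq_mul]; exact hblock z z'
  refine ⟨B, fun h => hne (by rw [hB, h, zero_smul]), fun f g => ?_⟩
  conv_lhs => rw [hB]
  rfl

end Cfsg.Agent.CoprimeBase.Small
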