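import Mathlib.Algebra.Field.ZMod
import Mathlib.LinearAlgebra.BilinearMap
import Mathlib.LinearAlgebra.Pi
import Mathlib.LinearAlgebra.StdBasis
import Mathlib.Algebra.BigOperators.Ring.Finset
import Mathlib.Data.Nat.Bitwise
import Mathlib.Tactic.Ring
import Mathlib.Tactic.LinearCombination
import Cfsg.Agent.Lib.CoprimeBase.Small.Checker

/-!
# The model module of a small Pauli group

* `op`: the operator of a word; `op_op`: operators compose up to sign.
* `frm`: the invariant form; `frm_op`.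
-/

set_option autoImplicit false

namespace Cfsg.Agent.CoprimeBase.Small

theorem par_le (x : ℕ) : par x ≤ 1 := by
  simp only [par, Nat.and_one_is_mod]; omega

theorem par_xor64 : ∀ x < 64, ∀ y < 64, par (x ^^^ y) = (par x + par y) % 2 := by decide +kernel

theorem par_xor {x y : ℕ} (hx : x < 64) (hy : y < 64) : par (x ^^^ y) = (par x + par y) % 2 :=
  par_xor64 x hx y hy

theorem par_two_pow : ∀ i < 6, par (2 ^ i) = 1 := by decide +kernel

theorem par_zero : par 0 = 0 := by decide +kernel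

variable {F : Type} [Field F]

/-- The sign of a parity. -/
def ps (x : ℕ) : F := if par x = 1 then -1 else 1

theorem ps_xor {x y : ℕ} (hx : x < 64) (hy : y < 64) : (ps (x ^^^ y) : F) = ps x * ps y := by
  have h := par_xor hx hy
  have h1 := par_le x
  have h2 := par_le y
  unfold ps
  rcases Nat.le_one_iff_eq_zero_or_eq_one.1 h1 with a | a <;>
    rcases Nat.le_one_iff_eq_zero_or_eq_one.1 h2 with b | b <;> simp [h, a, b]

theorem ps_mul_self (x : ℕ) : (ps x : F) * ps x = 1 := by
  unfold ps; split_ifs <;> simp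

theorem ps_sq (x : ℕ) : (ps x : F) ^ 2 = 1 := by rw [sq, ps_mul_self]

theorem ps_zero : (ps 0 : F) = 1 := by simp [ps, par_zero]

theorem and_xor_lt {n b : ℕ} (hn : n ≤ 6) (hb : b < 2 ^ n) (z : ℕ) : b &&& z < 64 :=
  lt_of_le_of_lt Nat.and_le_left (hb.trans_le (Nat.pow_le_pow_right two_pos hn))

/-- The two by two action of a pair of bits. -/
def quat (a b : ℕ) (g : ℕ → F) (e : ℕ) : F :=
  let g0 := if a &&& 1 = 1 then -g 1 else g 0
  let g1 := if a &&& 1 = 1 then g 0 else g 1
  let h0 := if b &&& 1 = 1 then g0 + g1 else g0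
  let h1 := if b &&& 1 = 1 then g0 - g1 else g1
  if e &&& 1 = 1 then h1 else h0

theorem and_one_cases (a : ℕ) : a &&& 1 = 0 ∨ a &&& 1 = 1 := by
  rw [Nat.and_one_is_mod]; omega

theorem xor_and_one (a b : ℕ) : (a ^^^ b) &&& 1 = (a &&& 1) ^^^ (b &&& 1) :=
  Nat.and_xor_distrib_right ..

theorem quat_quat (h3 : (3 : F) = 0) (a b a' b' : ℕ) : ∃ s : F, (s = 1 ∨ s = -1) ∧
    ∀ (g : ℕ → F) (e : ℕ), quat a b (fun e => quat a' b' g e) e = s * quat (a ^^^ a') (b ^^^ b') g e := by
  have h2 : (2 : F) = -1 := by linear_combination h3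
  rcases and_one_cases a with ha | ha <;> rcases and_one_cases b with hb | hb <;>
    rcases and_one_cases a' with ha' | ha' <;> rcases and_one_cases b' with hb' | hb' <;>
  first
  | refine ⟨1, Or.inl rfl, fun g e => ?_⟩
    rcases and_one_cases e with he | he <;>
    · simp only [quat, xor_and_one, ha, hb, ha', hb', he, Nat.xor_self, Nat.xor_zero, Nat.zero_xor,
        zero_ne_one, Nat.zero_and, Nat.and_self, if_false, if_true] <;>
        first | ring1 | linear_combination (g 0) * h3 | linear_combination (g 1) * h3 |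
          linear_combination -(g 0) * h3 | linear_combination -(g 1) * h3
  | refine ⟨-1, Or.inr rfl, fun g e => ?_⟩
    rcases and_one_cases e with he | he <;>
    · simp only [quat, xor_and_one, ha, hb, ha', hb', he, Nat.xor_self, Nat.xor_zero, Nat.zero_xor,
        zero_ne_one, Nat.zero_and, Nat.and_self, if_false, if_true] <;>
        first | ring1 | linear_combination (g 0) * h3 | linear_combination (g 1) * h3 |
          linear_combination -(g 0) * h3 | linear_combination -(g 1) * h3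

variable {n : ℕ} (minus : Bool)

/-- A function on the points, extended by zero. -/
def ext (f : Fin (2 ^ n) → F) (i : ℕ) : F := if h : i < 2 ^ n then f ⟨i, h⟩ else 0

theorem ext_lt {f : Fin (2 ^ n) → F} (i : Fin (2 ^ n)) : ext f i = f i := dif_pos i.2

theorem ext_add (f g : Fin (2 ^ n) → F) (i : ℕ) : ext (f + g) i = ext f i + ext g i := by
  unfold ext; split_ifs <;> simp

theorem ext_smul (r : F) (f : Fin (2 ^ n) → F) (i : ℕ) : ext (r • f) i = r * ext f i := by
  unfold ext; split_ifs <;> simp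

/-- The operator of a word, as a function. -/
def opFun (w : ℕ) (f : Fin (2 ^ n) → F) (z : ℕ) : F :=
  if minus then ps ((w >>> n) >>> 1 &&& z >>> 1) *
    quat (w &&& (2 ^ n - 1)) (w >>> n)
      (fun e => ext f (2 * (z >>> 1 ^^^ (w &&& (2 ^ n - 1)) >>> 1) + e)) z
  else ps (w >>> n &&& z) * ext f (z ^^^ (w &&& (2 ^ n - 1)))

/-- The operator of a word. -/
def op (w : ℕ) : (Fin (2 ^ n) → F) →ₗ[F] (Fin (2 ^ n) → F) where
  toFun f z := opFun minus w f z
  map_add' f g := by
    funext z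
    simp only [opFun, quat, ext_add, Pi.add_apply]
    split_ifs <;> ring
  map_smul' r f := by
    funext z
    simp only [opFun, quat, ext_smul, Pi.smul_apply, smul_eq_mul, RingHom.id_apply]
    split_ifs <;> ring

theorem op_apply (w : ℕ) (f : Fin (2 ^ n) → F) (z : Fin (2 ^ n)) :
    op minus w f z = opFun minus w f z := rfl

theorem fst_lt (w : ℕ) : w &&& (2 ^ n - 1) < 2 ^ n :=
  lt_of_le_of_lt Nat.and_le_right (Nat.sub_lt (Nat.two_pow_pos n) one_pos)

theorem snd_lt {w : ℕ} (hw : w < 2 ^ (2 * n)) : w >>> n < 2 ^ n := by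
  rw [Nat.shiftRight_eq_div_pow, Nat.div_lt_iff_lt_mul (Nat.two_pow_pos n), ← pow_add, ← two_mul]
  exact hw

theorem shr_xor (a b k : ℕ) : (a ^^^ b) >>> k = a >>> k ^^^ b >>> k :=
  Nat.eq_of_testBit_eq fun i => by simp [Nat.testBit_shiftRight, Nat.testBit_xor]

theorem half_lt {i : ℕ} (h : i < 2 ^ n) (hn : 1 ≤ n) : i >>> 1 < 2 ^ (n - 1) := by
  rw [Nat.shiftRight_eq_div_pow, pow_one, Nat.div_lt_iff_lt_mul two_pos, ← pow_succ,
    Nat.sub_add_cancel hn]
  exact h

theorem two_mul_add_lt {n t e : ℕ} (hn : 1 ≤ n) (ht : t < 2 ^ (n - 1)) (he : e ≤ 1) :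
    2 * t + e < 2 ^ n := by
  have : 2 ^ n = 2 * 2 ^ (n - 1) := by rw [← pow_succ', Nat.sub_add_cancel hn]
  omega

theorem shr_two_mul_add {t e : ℕ} (he : e ≤ 1) : (2 * t + e) >>> 1 = t ∧ (2 * t + e) &&& 1 = e := by
  rw [Nat.shiftRight_eq_div_pow, Nat.and_one_is_mod, pow_one]; omega

theorem quat_congr {a b : ℕ} {g g' : ℕ → F} (h : ∀ e ≤ 1, g e = g' e) (e : ℕ) :
    quat a b g e = quat a b g' e := by
  simp only [quat, h 0 (by omega), h 1 le_rfl]

theorem quat_smul (a b : ℕ) (s : F) (g : ℕ → F) (e : ℕ) :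
    quat a b (fun e => s * g e) e = s * quat a b g e := by
  simp only [quat]; split_ifs <;> ring

theorem quat_parity (a b : ℕ) (g : ℕ → F) {e e' : ℕ} (h : e &&& 1 = e' &&& 1) :
    quat a b g e = quat a b g e' := by
  simp only [quat, h]

theorem op_op (h3 : minus = true → (3 : F) = 0 ∧ 1 ≤ n) (hn : n ≤ 6) {v w : ℕ}
    (hv : v < 2 ^ (2 * n)) (hw : w < 2 ^ (2 * n)) : ∃ s : F, (s = 1 ∨ s = -1) ∧
    ∀ f : Fin (2 ^ n) → F, op minus v (op minus w f) = s • op minus (v ^^^ w) f := by
  have hps : ∀ x : ℕ, (ps x : F) = 1 ∨ (ps x : F) = -1 := fun x => by unfold ps; split_ifs <;> simp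
  have e2 : (v ^^^ w) >>> n = v >>> n ^^^ w >>> n := shr_xor _ _ _
  have e1 : (v ^^^ w) &&& (2 ^ n - 1) = (v &&& (2 ^ n - 1)) ^^^ (w &&& (2 ^ n - 1)) :=
    Nat.and_xor_distrib_right ..
  cases minus with
  | false =>
    refine ⟨ps (w >>> n &&& (v &&& (2 ^ n - 1))), hps _, fun f => ?_⟩
    funext z
    simp only [Pi.smul_apply, smul_eq_mul, op_apply]
    unfold opFun
    simp only [Bool.false_eq_true, if_false, e1, e2]
    have hz : (z : ℕ) ^^^ (v &&& (2 ^ n - 1)) < 2 ^ n := Nat.xor_lt_two_pow z.2 (fst_lt v)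
    conv_lhs => arg 2; unfold ext
    rw [dif_pos hz, op_apply]
    unfold opFun
    simp only [Bool.false_eq_true, if_false]
    rw [Nat.and_xor_distrib_left, ps_xor (and_xor_lt hn (snd_lt hw) _) (and_xor_lt hn (snd_lt hw) _),
      Nat.and_xor_distrib_right,
      ps_xor (and_xor_lt hn (snd_lt hv) _) (and_xor_lt hn (snd_lt hw) _), Nat.xor_assoc]
    ring
  | true =>
    obtain ⟨h3', h1⟩ := h3 rfl
    set a := v &&& (2 ^ n - 1) with ha
    set b := v >>> n with hb
    set a' := w &&& (2 ^ n - 1) with ha'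
    set b' := w >>> n with hb'
    obtain ⟨s, hs, hq⟩ := quat_quat h3' a b a' b'
    refine ⟨ps (b' >>> 1 &&& a >>> 1) * s, ?_, fun f => ?_⟩
    · rcases hps (b' >>> 1 &&& a >>> 1) with h | h <;> rcases hs with h' | h' <;> simp [h, h']
    funext z
    simp only [Pi.smul_apply, smul_eq_mul, op_apply]
    unfold opFun
    simp only [if_true, e1, e2]
    have ht : (z : ℕ) >>> 1 ^^^ a >>> 1 < 2 ^ (n - 1) :=
      Nat.xor_lt_two_pow (half_lt z.2 h1) (half_lt (fst_lt v) h1)
    set t := (z : ℕ) >>> 1 ^^^ a >>> 1 with htdef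
    rw [quat_congr (g' := fun e => ps (b' >>> 1 &&& t) *
      quat a' b' (fun e => ext f (2 * (t ^^^ a' >>> 1) + e)) e) (fun e he => ?_)]
    · rw [quat_smul, hq, shr_xor, shr_xor, htdef, Nat.and_xor_distrib_left (a := b' >>> 1),
        Nat.and_xor_distrib_right, Nat.xor_assoc]
      have hb1 : b >>> 1 < 2 ^ n := lt_of_le_of_lt (Nat.shiftRight_le _ _) (snd_lt hv)
      have hb1' : b' >>> 1 < 2 ^ n := lt_of_le_of_lt (Nat.shiftRight_le _ _) (snd_lt hw)
      rw [ps_xor (and_xor_lt hn hb1' _) (and_xor_lt hn hb1' _),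
        ps_xor (and_xor_lt hn hb1 _) (and_xor_lt hn hb1' _)]
      ring
    · conv_lhs => unfold ext
      rw [dif_pos (two_mul_add_lt h1 ht he), op_apply]
      unfold opFun
      simp only [if_true]
      rw [← ha', ← hb', (shr_two_mul_add he).1]
      congr 1
      exact quat_parity _ _ _ (by rw [(shr_two_mul_add he).2, Nat.and_one_is_mod]; omega)

theorem op_zero (f : Fin (2 ^ n) → F) (h1 : minus = true → 1 ≤ n) : op minus 0 f = f := by
  funext z
  rw [op_apply]
  unfold opFun
  cases minus with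
  | false => simp [ps_zero, ext_lt]
  | true =>
    simp only [if_true, Nat.zero_shiftRight, Nat.zero_and, ps_zero, one_mul, Nat.xor_zero, quat]
    rcases and_one_cases (z : ℕ) with h | h <;> simp only [h] <;> simp <;>
      (rw [← ext_lt (f := f) z]; congr 1) <;>
      (rw [Nat.and_one_is_mod] at h; rw [Nat.shiftRight_eq_div_pow]; omega)

/-- The form. -/
def frm : (Fin (2 ^ n) → F) →ₗ[F] (Fin (2 ^ n) → F) →ₗ[F] F :=
  LinearMap.mk₂ F (fun f g => ∑ z : Fin (2 ^ n), f z *
      (if minus then (if (z : ℕ) &&& 1 = 1 then -ext g (z - 1) else ext g (z + 1)) else g z))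
    (fun f f' g => by
      rw [← Finset.sum_add_distrib]
      refine Finset.sum_congr rfl fun z _ => ?_
      simp only [Pi.add_apply, add_mul])
    (fun r f g => by
      rw [Finset.smul_sum]
      refine Finset.sum_congr rfl fun z _ => ?_
      simp only [Pi.smul_apply, smul_eq_mul, mul_assoc])
    (fun f g g' => by
      rw [← Finset.sum_add_distrib]
      refine Finset.sum_congr rfl fun z _ => ?_
      simp only [ext_add, Pi.add_apply]
      split_ifs <;> ring)
    (fun r f g => by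
      rw [Finset.smul_sum]
      refine Finset.sum_congr rfl fun z _ => ?_
      simp only [ext_smul, Pi.smul_apply, smul_eq_mul]
      split_ifs <;> ring)

theorem frm_apply (f g : Fin (2 ^ n) → F) : frm minus f g = ∑ z : Fin (2 ^ n), f z *
    (if minus then (if (z : ℕ) &&& 1 = 1 then -ext g (z - 1) else ext g (z + 1)) else g z) := rfl

theorem sum_range_two_mul (G : ℕ → F) : ∀ m : ℕ,
    ∑ i ∈ Finset.range (2 * m), G i = ∑ t ∈ Finset.range m, (G (2 * t) + G (2 * t + 1))
  | 0 => rfl
  | m + 1 => by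
    rw [show 2 * (m + 1) = 2 * m + 1 + 1 by ring, Finset.sum_range_succ, Finset.sum_range_succ,
      Finset.sum_range_succ, sum_range_two_mul G m]
    ring

theorem sum_xor (G : ℕ → F) {k a : ℕ} (ha : a < 2 ^ k) :
    ∑ i ∈ Finset.range (2 ^ k), G (i ^^^ a) = ∑ i ∈ Finset.range (2 ^ k), G i := by
  refine Finset.sum_nbij' (· ^^^ a) (· ^^^ a) (fun i hi => ?_) (fun i hi => ?_) (fun i _ => ?_)
    (fun i _ => ?_) fun i _ => rfl
  · simp only [Finset.mem_range] at hi ⊢
    exact Nat.xor_lt_two_pow hi ha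
  · simp only [Finset.mem_range] at hi ⊢
    exact Nat.xor_lt_two_pow hi ha
  · simp [Nat.xor_assoc]
  · simp [Nat.xor_assoc]

/-- The two by two determinant. -/
def det2 (g h : ℕ → F) : F := g 0 * h 1 - g 1 * h 0

theorem det2_quat (h3 : (3 : F) = 0) (a b : ℕ) (g h : ℕ → F) :
    det2 (quat a b g) (quat a b h) = det2 g h := by
  rcases and_one_cases a with ha | ha <;> rcases and_one_cases b with hb | hb <;>
    simp [det2, quat, ha, hb] <;>
    (first | ring1 | linear_combination (g 0 * h 1 - g 1 * h 0) * h3 |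
      linear_combination -(g 0 * h 1 - g 1 * h 0) * h3)

theorem frm_minus_eq (h1 : 1 ≤ n) (f g : Fin (2 ^ n) → F) : frm true f g =
    ∑ t ∈ Finset.range (2 ^ (n - 1)),
      det2 (fun e => ext f (2 * t + e)) (fun e => ext g (2 * t + e)) := by
  rw [frm_apply]
  simp only [if_true]
  have h : ∀ z : Fin (2 ^ n), f z * (if (z : ℕ) &&& 1 = 1 then -ext g (z - 1) else ext g (z + 1)) =
      (fun i => ext f i * (if i &&& 1 = 1 then -ext g (i - 1) else ext g (i + 1))) z := fun z => by
    simp only [ext_lt]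
  simp only [h]
  rw [Fin.sum_univ_eq_sum_range
      (fun i => ext f i * (if i &&& 1 = 1 then -ext g (i - 1) else ext g (i + 1))),
    show 2 ^ n = 2 * 2 ^ (n - 1) by rw [← pow_succ', Nat.sub_add_cancel h1], sum_range_two_mul]
  refine Finset.sum_congr rfl fun t _ => ?_
  have e0 : (2 * t) &&& 1 = 0 := by rw [Nat.and_one_is_mod]; omega
  have e1 : (2 * t + 1) &&& 1 = 1 := by rw [Nat.and_one_is_mod]; omega
  simp [e0, e1, det2, sub_eq_add_neg]

theorem frm_op (h3 : minus = true → (3 : F) = 0 ∧ 1 ≤ n) (w : ℕ)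
    (f g : Fin (2 ^ n) → F) : frm minus (op minus w f) (op minus w g) = frm minus f g := by
  cases minus with
  | false =>
    rw [frm_apply, frm_apply]
    simp only [Bool.false_eq_true, if_false]
    have key : ∀ z : Fin (2 ^ n), op false w f z * op false w g z =
        (fun i => ext f i * ext g i) ((z : ℕ) ^^^ (w &&& (2 ^ n - 1))) := fun z => by
      simp only [op_apply, opFun, Bool.false_eq_true, if_false]
      linear_combination (ext f ((z : ℕ) ^^^ (w &&& (2 ^ n - 1))) *
        ext g ((z : ℕ) ^^^ (w &&& (2 ^ n - 1)))) * ps_mul_self (F := F) (w >>> n &&& z)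
    have key2 : ∀ z : Fin (2 ^ n), f z * g z = (fun i => ext f i * ext g i) (z : ℕ) := fun z => by
      simp only [ext_lt]
    simp only [key, key2]
    rw [Fin.sum_univ_eq_sum_range
        (fun i => (fun i => ext f i * ext g i) (i ^^^ (w &&& (2 ^ n - 1)))),
      Fin.sum_univ_eq_sum_range (fun i => ext f i * ext g i)]
    exact sum_xor (fun i => ext f i * ext g i) (fst_lt w)
  | true =>
    obtain ⟨h3', h1⟩ := h3 rfl
    rw [frm_minus_eq h1, frm_minus_eq h1,
      ← sum_xor (fun t => det2 (fun e => ext f (2 * t + e)) (fun e => ext g (2 * t + e)))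
        (half_lt (fst_lt (n := n) w) h1)]
    refine Finset.sum_congr rfl fun t ht => ?_
    have ht' := Finset.mem_range.1 ht
    have key : ∀ (u : Fin (2 ^ n) → F), ∀ e ≤ 1, ext (op true w u) (2 * t + e) =
        ps ((w >>> n) >>> 1 &&& t) * quat (w &&& (2 ^ n - 1)) (w >>> n)
          (fun e => ext u (2 * (t ^^^ (w &&& (2 ^ n - 1)) >>> 1) + e)) e := by
      intro u e he
      conv_lhs => unfold ext
      rw [dif_pos (two_mul_add_lt h1 ht' he), op_apply]
      simp only [opFun, if_true, (shr_two_mul_add he).1]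
      congr 1
      exact quat_parity _ _ _ (by rw [(shr_two_mul_add he).2, Nat.and_one_is_mod]; omega)
    simp only [det2, key f 0 (by omega), key f 1 le_rfl, key g 0 (by omega), key g 1 le_rfl]
    have hd := det2_quat h3' (w &&& (2 ^ n - 1)) (w >>> n)
      (fun e => ext f (2 * (t ^^^ (w &&& (2 ^ n - 1)) >>> 1) + e))
      (fun e => ext g (2 * (t ^^^ (w &&& (2 ^ n - 1)) >>> 1) + e))
    simp only [det2] at hd
    have hp := ps_mul_self (F := F) ((w >>> n) >>> 1 &&& t)
    linear_combination (ps ((w >>> n) >>> 1 &&& t) * ps ((w >>> n) >>> 1 &&& t)) * hd +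
      (ext f (2 * (t ^^^ (w &&& (2 ^ n - 1)) >>> 1) + 0) *
          ext g (2 * (t ^^^ (w &&& (2 ^ n - 1)) >>> 1) + 1) -
        ext f (2 * (t ^^^ (w &&& (2 ^ n - 1)) >>> 1) + 1) *
          ext g (2 * (t ^^^ (w &&& (2 ^ n - 1)) >>> 1) + 0)) * hp

end Cfsg.Agent.CoprimeBase.Small
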