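import Cfsg.Agent.Lib.CoprimeBase.Small.Checker
import Mathlib.Data.Nat.Bitwise
import Mathlib.Data.Finset.Card
import Mathlib.Data.Finset.Range
import Mathlib.Data.List.Nodup
import Mathlib.Data.List.Perm.Basic
import Mathlib.Tactic.IntervalCases
import Mathlib.Data.List.Range
import Mathlib.Data.Finset.Image

/-!
# Soundness of the search

* `Cert.Compat`: a linear symplectic map of the words matching the colours up to a shift.
* `Cert.leaf_of_search`: such a map meets the leaf criterion.
-/

set_option autoImplicit false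

namespace Cfsg.Agent.CoprimeBase.Small

namespace Cert

variable (c : Cert)

theorem size_eq : c.size = 2 ^ (2 * c.n) := by rw [size, ← pow_add, two_mul]

theorem size_pos : 0 < c.size := by rw [size_eq]; exact Nat.two_pow_pos _

theorem xor_lt {a b : ℕ} (ha : a < c.size) (hb : b < c.size) : a ^^^ b < c.size := by
  rw [size_eq] at *; exact Nat.xor_lt_two_pow ha hb

/-- A map of words: linear, preserving the pairing, matching colours after a shift by `u`. -/
structure Compat (u : ℕ) (T : ℕ → ℕ) : Prop where
  lt : ∀ w < c.size, T w < c.size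
  xor : ∀ v < c.size, ∀ w < c.size, T (v ^^^ w) = T v ^^^ T w
  om : ∀ v < c.size, ∀ w < c.size, c.om (T v) (T w) = c.om v w
  colour : ∀ w < c.size, c.colour (T w) = c.colour (u ^^^ w)
  shift : c.p = 3 → u = 0
  shift_lt : u < c.size

/-- The leaf criterion as a property of a map. -/
def LeafSpec (T : ℕ → ℕ) : Prop :=
  (∀ w < c.size, T w = w) ∨ (c.p = 3 ∧ ((∀ w < c.size, T (T (T w)) = w) ∨
    ((c.n = 2 ∨ c.n = 3) ∧ (∀ w < c.size, T (T w) = w) ∧
      ((Finset.range c.size).filter fun w => T w = w).card = 2 ^ (c.n + 1))))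

theorem mem_spanList_cons {d : ℕ} {ds : List ℕ} {x : ℕ} :
    x ∈ spanList (d :: ds) ↔ x ∈ spanList ds ∨ ∃ y ∈ spanList ds, d ^^^ y = x := by
  simp [spanList]

theorem length_spanList : ∀ l : List ℕ, (spanList l).length = 2 ^ l.length
  | [] => rfl
  | d :: ds => by simp [spanList, length_spanList ds, pow_succ]; omega

theorem lookup_eq {sp : List (ℕ × ℕ)} {T : ℕ → ℕ} (hsp : ∀ e ∈ sp, e.2 = T e.1) {w : ℕ}
    (hw : ∃ e ∈ sp, e.1 = w) : lookup sp w = T w := by
  unfold lookup
  cases h : sp.find? (fun e => e.1 == w) with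
  | none =>
    obtain ⟨e, he, hew⟩ := hw
    exact absurd (by simpa using hew) (List.find?_eq_none.1 h e he)
  | some e =>
    have h1 := List.find?_some h
    show e.2 = T w
    rw [hsp e (List.mem_of_find?_eq_some h), show e.1 = w by simpa using h1]

theorem leaf_spec {T : ℕ → ℕ} {u : ℕ} (hT : c.Compat u T) {sp : List (ℕ × ℕ)}
    (hsp : ∀ e ∈ sp, e.2 = T e.1 ∧ e.1 < c.size) (hall : ∀ w < c.size, ∃ e ∈ sp, e.1 = w)
    (hlen : sp.length ≤ c.size) (h : c.leaf sp = true) : c.LeafSpec T := by
  have hev : ∀ w < c.size, lookup sp w = T w := fun w hw =>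
    lookup_eq (fun e he => (hsp e he).1) (hall w hw)
  simp only [leaf, Bool.or_eq_true, Bool.and_eq_true, List.all_eq_true, beq_iff_eq] at h
  rcases h with h | ⟨hp, h | ⟨⟨hn, h⟩, hc⟩⟩
  · left
    intro w hw
    obtain ⟨e, he, rfl⟩ := hall w hw
    rw [← (hsp e he).1, ← h e he]
  · right
    refine ⟨hp, Or.inl fun w hw => ?_⟩
    obtain ⟨e, he, rfl⟩ := hall w hw
    have h1 := h e he
    rwa [(hsp e he).1, hev _ (hT.lt _ hw), hev _ (hT.lt _ (hT.lt _ hw))] at h1
  · right
    refine ⟨hp, Or.inr ⟨hn, fun w hw => ?_, ?_⟩⟩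
    · obtain ⟨e, he, rfl⟩ := hall w hw
      have h1 := h e he
      rwa [(hsp e he).1, hev _ (hT.lt _ hw)] at h1
    · rw [← hc]
      have hsub : (List.range c.size).toFinset ⊆ (sp.map Prod.fst).toFinset := fun w hw => by
        simp only [List.mem_toFinset, List.mem_range] at hw
        simp only [List.mem_toFinset, List.mem_map]
        exact hall w hw
      have hcard : (sp.map Prod.fst).toFinset.card = (sp.map Prod.fst).length := by
        refine le_antisymm (List.toFinset_card_le _) ?_
        have h1 := Finset.card_le_card hsub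
        rw [List.toFinset_card_of_nodup List.nodup_range, List.length_range] at h1
        rw [List.length_map]
        omega
      have hnd : (sp.map Prod.fst).Nodup := by
        rw [List.card_toFinset] at hcard
        exact List.dedup_eq_self.1 ((List.dedup_sublist _).eq_of_length hcard)
      have hnd2 : (sp.filter fun e => e.1 == e.2).map Prod.fst |>.Nodup :=
        hnd.sublist (List.filter_sublist.map _)
      rw [← List.length_map (as := sp.filter fun e => e.1 == e.2) Prod.fst,
        ← List.toFinset_card_of_nodup hnd2]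
      congr 1
      ext w
      simp only [List.mem_toFinset, List.mem_map, List.mem_filter, beq_iff_eq, Finset.mem_filter,
        Finset.mem_range]
      constructor
      · rintro ⟨hw, hTw⟩
        obtain ⟨e, he, rfl⟩ := hall w hw
        exact ⟨e, ⟨he, by rw [(hsp e he).1, hTw]⟩, rfl⟩
      · rintro ⟨e, ⟨he, hee⟩, rfl⟩
        exact ⟨(hsp e he).2, by rw [← (hsp e he).1, hee]⟩

theorem go_spec {T : ℕ → ℕ} {u : ℕ} (hT : c.Compat u T) :
    ∀ (ds : List ℕ) (img sp : List (ℕ × ℕ)), (∀ d ∈ ds, d < c.size) →
      (∀ e ∈ img, e.2 = T e.1 ∧ e.1 < c.size) → (∀ e ∈ sp, e.2 = T e.1 ∧ e.1 < c.size) →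
      (∀ w < c.size, ∃ e ∈ sp, ∃ b ∈ spanList ds, e.1 ^^^ b = w) →
      sp.length * 2 ^ ds.length ≤ c.size → c.go u ds img sp = true → c.LeafSpec T := by
  intro ds
  induction ds with
  | nil =>
    intro img sp _ _ hsp hall hlen h
    refine c.leaf_spec hT hsp (fun w hw => ?_) (by simpa using hlen) h
    obtain ⟨e, he, b, hb, hw'⟩ := hall w hw
    simp only [spanList, List.mem_singleton] at hb
    subst hb
    exact ⟨e, he, by rw [← hw', Nat.xor_zero]⟩
  | cons d ds ih =>
    intro img sp hds himg hsp hall hlen h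
    have hd : d < c.size := hds d (by simp)
    have hTd := hT.lt d hd
    simp only [go, List.all_eq_true, List.mem_range] at h
    have hw := h (T d) hTd
    have h1 : (c.colour (T d) == c.colour (u ^^^ d)) = true := beq_iff_eq.2 (hT.colour d hd)
    have h2 : img.all (fun e => c.om d e.1 == c.om (T d) e.2) = true :=
      List.all_eq_true.2 fun e he => by
        rw [beq_iff_eq, (himg e he).1, hT.om d hd _ (himg e he).2]
    have h3 : sp.all (fun e => c.colour (e.2 ^^^ T d) == c.colour (u ^^^ (e.1 ^^^ d))) = true :=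
      List.all_eq_true.2 fun e he => by
        rw [beq_iff_eq, (hsp e he).1, ← hT.xor _ (hsp e he).2 _ hd,
          hT.colour _ (c.xor_lt (hsp e he).2 hd)]
    rw [h1, h2, h3] at hw
    simp only [Bool.not_true, Bool.false_or] at hw
    refine ih ((d, T d) :: img) (sp ++ sp.map fun e => (e.1 ^^^ d, e.2 ^^^ T d))
      (fun x hx => hds x (by simp [hx])) ?_ ?_ ?_ ?_ hw
    · intro e he
      rcases List.mem_cons.1 he with rfl | he
      exacts [⟨rfl, hd⟩, himg e he]
    · intro e he
      rcases List.mem_append.1 he with he | he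
      · exact hsp e he
      · obtain ⟨f, hf, rfl⟩ := List.mem_map.1 he
        exact ⟨by rw [(hsp f hf).1, hT.xor _ (hsp f hf).2 _ hd], c.xor_lt (hsp f hf).2 hd⟩
    · intro w hw'
      obtain ⟨e, he, b, hb, hwe⟩ := hall w hw'
      rcases mem_spanList_cons.1 hb with hb | ⟨y, hy, rfl⟩
      · exact ⟨e, List.mem_append_left _ he, b, hb, hwe⟩
      · exact ⟨(e.1 ^^^ d, e.2 ^^^ T d), List.mem_append_right _ (List.mem_map.2 ⟨e, he, rfl⟩), y, hy,
          by rw [← hwe, Nat.xor_assoc]⟩
    · rw [List.length_cons, pow_succ] at hlen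
      rw [List.length_append, List.length_map]
      refine le_trans (le_of_eq ?_) hlen
      rw [add_mul, mul_comm _ 2, ← mul_assoc, mul_two, add_mul]

theorem testBit_foldl (l : List ℕ) : ∀ (m i : ℕ),
    (l.foldl (fun m w => m ||| (1 <<< w)) m).testBit i = (m.testBit i || decide (i ∈ l)) := by
  induction l with
  | nil => simp
  | cons a l ih =>
    intro m i
    rw [List.foldl_cons, ih, Nat.testBit_lor, Nat.one_shiftLeft, Nat.testBit_two_pow]
    by_cases h : i = a <;> simp [h, Ne.symm, List.mem_cons]

theorem bas_spans (hb : c.basOK = true) {w : ℕ} (hw : w < c.size) : w ∈ spanList c.bas := by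
  simp only [basOK, beq_iff_eq] at hb
  have h := congrArg (fun m => Nat.testBit m w) hb
  simp only [testBit_foldl, Nat.zero_testBit, Bool.false_or, Nat.testBit_two_pow_sub_one, hw,
    decide_true] at h
  exact of_decide_eq_true h

theorem leaf_of_search (hs : c.search = true) (hb : c.basOK = true)
    (hbas : c.bas.all (fun d => d < c.size) = true) (hlen : c.bas.length = 2 * c.n) {u : ℕ}
    {T : ℕ → ℕ} (hT : c.Compat u T) : c.LeafSpec T := by
  simp only [search, List.all_eq_true] at hs
  have hu : u ∈ c.shifts := by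
    unfold shifts
    split_ifs with h
    · simp [hT.shift h]
    · exact List.mem_range.2 hT.shift_lt
  have h0 := c.size_pos
  have hT0 : T 0 = 0 := by
    have h := hT.xor 0 h0 0 h0
    rwa [Nat.xor_self (T 0), Nat.xor_self] at h
  have hcol : c.colour 0 = c.colour u := by
    have h := hT.colour 0 h0
    rwa [hT0, Nat.xor_zero] at h
  have hgo := hs u hu
  rw [show (c.colour 0 == c.colour u) = true from beq_iff_eq.2 hcol] at hgo
  simp only [Bool.not_true, Bool.false_or] at hgo
  refine c.go_spec hT c.bas [] [(0, 0)] (fun d hd => ?_) (by simp) ?_ ?_ ?_ hgo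
  · simpa using List.all_eq_true.1 hbas d hd
  · intro e he
    rw [List.mem_singleton.1 he]
    exact ⟨hT0.symm, h0⟩
  · exact fun w hw => ⟨_, List.mem_singleton_self _, w, c.bas_spans hb hw, Nat.zero_xor w⟩
  · rw [hlen, size_eq]; simp

end Cert

end Cfsg.Agent.CoprimeBase.Small
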