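import Cfsg.Agent.Lib.CoprimeBase.Small.Sound
import Cfsg.Agent.Lib.CoprimeBase.Small.Classify
import Mathlib.FieldTheory.Finite.Basic

/-!
# What a valid certificate says about the model module

* `Cert.Valid`: all the checks.
* `Cert.leafSpec`: a semisimilitude fixing both points induces a map meeting the leaf criterion.
* `Cert.eq_zero_of_fixes`, `Cert.mem_span`: the other two checks.
-/

set_option autoImplicit false

namespace Cfsg.Agent.CoprimeBase.Small

namespace Cert

variable (c : Cert)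

/-- The size conditions. -/
def misc : Bool :=
  c.bas.all (fun d => d < c.size) && c.bas.length == 2 * c.n && decide (c.n ≤ 5) && decide (1 ≤ c.n) &&
    (c.p == 3 || (c.p == 5 && !c.minus)) && c.words.all (fun d => d < c.size) &&
    (List.range c.dim).all (fun z => decide (vec c.x z < c.p) && decide (vec c.y z < c.p))

/-- All the checks. -/
structure Valid : Prop where
  table : c.tableOK = true
  pauli : c.pauliOK = true
  span : c.spanOK = true
  bas : c.basOK = true
  search : c.search = true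
  misc : c.misc = true

theorem Valid.facts {c : Cert} (hc : c.Valid) :
    (∀ d ∈ c.bas, d < c.size) ∧ c.bas.length = 2 * c.n ∧ c.n ≤ 5 ∧ 1 ≤ c.n ∧
      (c.p = 3 ∨ c.p = 5 ∧ c.minus = false) ∧ (∀ d ∈ c.words, d < c.size) ∧
      ∀ z < 2 ^ c.n, vec c.x z < c.p ∧ vec c.y z < c.p := by
  simpa [Cert.misc, Cert.dim, and_assoc] using hc.misc

/-- The vectors of the model. -/
abbrev Vec := Fin (2 ^ c.n) → ZMod c.p

/-- The first point. -/
def xv : c.Vec := fun z => (vec c.x z : ZMod c.p)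

/-- The second point. -/
def yv : c.Vec := fun z => (vec c.y z : ZMod c.p)

variable [hpF : Fact c.p.Prime]

theorem cast_pred : ((c.p - 1 : ℕ) : ZMod c.p) = -1 := by
  rw [Nat.cast_sub hpF.out.one_le, ZMod.natCast_self, Nat.cast_one, zero_sub]

theorem sgn_cast (b z : ℕ) : (c.sgn b z : ZMod c.p) = ps (b &&& z) := by
  unfold sgn ps
  split_ifs <;> simp [cast_pred]

theorem ext_vec (g : ℕ → ℕ) {i : ℕ} (hi : i < 2 ^ c.n) :
    ext (fun z : Fin (2 ^ c.n) => (g z : ZMod c.p)) i = g i := dif_pos hi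

theorem app_cast (hn : c.minus = true → 1 ≤ c.n) (w : ℕ) (g : ℕ → ℕ) (z : Fin (2 ^ c.n)) :
    (c.app w g z : ZMod c.p) = op c.minus w (fun z : Fin (2 ^ c.n) => (g z : ZMod c.p)) z := by
  rw [op_apply]
  unfold app opFun fstHalf sndHalf
  cases hm : c.minus with
  | false =>
    simp only [Bool.false_eq_true, if_false, ZMod.natCast_mod, Nat.cast_mul, sgn_cast]
    rw [c.ext_vec g (Nat.xor_lt_two_pow z.2 (fst_lt w))]
  | true =>
    have h1 := hn hm
    have ht : (z : ℕ) >>> 1 ^^^ (w &&& (2 ^ c.n - 1)) >>> 1 < 2 ^ (c.n - 1) :=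
      Nat.xor_lt_two_pow (half_lt z.2 h1) (half_lt (fst_lt w) h1)
    simp only [if_true, ZMod.natCast_mod, Nat.cast_mul, sgn_cast, quat,
      c.ext_vec g (two_mul_add_lt h1 ht le_rfl),
      c.ext_vec g (two_mul_add_lt h1 ht (zero_le_one))]
    congr 1
    simp only [add_zero]
    split_ifs <;> simp [cast_pred] <;> ring

theorem foldl_add (G : ℕ → ℕ) : ∀ m : ℕ,
    (List.range m).foldl (fun s z => s + G z) 0 = ∑ z ∈ Finset.range m, G z
  | 0 => rfl
  | m + 1 => by simp [List.range_succ, foldl_add G m, Finset.sum_range_succ]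

theorem form_cast (hn : c.minus = true → 1 ≤ c.n) (f g : ℕ → ℕ) :
    (c.form f g : ZMod c.p) = frm c.minus (fun z : Fin (2 ^ c.n) => (f z : ZMod c.p))
      (fun z : Fin (2 ^ c.n) => (g z : ZMod c.p)) := by
  unfold form dim
  rw [foldl_add, ZMod.natCast_mod, Nat.cast_sum, frm_apply,
    ← Fin.sum_univ_eq_sum_range (fun i => ((f i * (if c.minus = true then
      (if i &&& 1 = 1 then (c.p - 1) * g (i - 1) else g (i + 1)) else g i) : ℕ) : ZMod c.p))]
  refine Finset.sum_congr rfl fun z _ => ?_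
  cases hm : c.minus with
  | false => simp
  | true =>
    have h1 := hn hm
    have he : 2 ^ c.n = 2 * 2 ^ (c.n - 1) := by rw [← pow_succ', Nat.sub_add_cancel h1]
    simp only [if_true]
    split_ifs with h
    · rw [c.ext_vec g (by omega), Nat.cast_mul, Nat.cast_mul, cast_pred]; ring
    · rw [Nat.and_one_is_mod] at h
      rw [c.ext_vec g (by omega), Nat.cast_mul]

theorem colourOf_congr {d : Cert} (h : d.p = c.p) (q : List ℕ) : d.colourOf q = c.colourOf q := by
  have hc : ∀ l, d.code (d.scaled l q) = c.code (c.scaled l q) := fun l => by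
    simp only [code, scaled, h]
  simp only [colourOf, hc, h]

omit hpF in
theorem colourOf_scale_three_aux : ((List.range 3).all fun a => (List.range 3).all fun b =>
    (List.range 3).all fun e => (List.range 3).all fun f => (List.range 3).all fun l => l == 0 ||
      (⟨3, 0, false, 0, 0, [], [], [], 0⟩ : Cert).colourOf [l * a % 3, l * b % 3, l * e % 3, l * f % 3] ==
        (⟨3, 0, false, 0, 0, [], [], [], 0⟩ : Cert).colourOf [a, b, e, f]) = true := by decide +kernel

omit hpF in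
theorem colourOf_scale_three {a b e f l : ℕ} (ha : a < 3) (hb : b < 3) (he : e < 3) (hf : f < 3)
    (hl : l < 3) (hl0 : 0 < l) :
    (⟨3, 0, false, 0, 0, [], [], [], 0⟩ : Cert).colourOf [l * a % 3, l * b % 3, l * e % 3, l * f % 3] =
      (⟨3, 0, false, 0, 0, [], [], [], 0⟩ : Cert).colourOf [a, b, e, f] := by
  have h := colourOf_scale_three_aux
  simp only [List.all_eq_true, List.mem_range, Bool.or_eq_true, beq_iff_eq] at h
  exact (h a ha b hb e he f hf l hl).resolve_left (Nat.pos_iff_ne_zero.1 hl0)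

omit hpF in
theorem colourOf_scale_five_aux : ((List.range 5).all fun a => (List.range 5).all fun b =>
    (List.range 5).all fun e => (List.range 5).all fun f => (List.range 5).all fun l => l == 0 ||
      (⟨5, 0, false, 0, 0, [], [], [], 0⟩ : Cert).colourOf [l * a % 5, l * b % 5, l * e % 5, l * f % 5] ==
        (⟨5, 0, false, 0, 0, [], [], [], 0⟩ : Cert).colourOf [a, b, e, f]) = true := by decide +kernel

omit hpF in
theorem colourOf_scale_five {a b e f l : ℕ} (ha : a < 5) (hb : b < 5) (he : e < 5) (hf : f < 5)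
    (hl : l < 5) (hl0 : 0 < l) :
    (⟨5, 0, false, 0, 0, [], [], [], 0⟩ : Cert).colourOf [l * a % 5, l * b % 5, l * e % 5, l * f % 5] =
      (⟨5, 0, false, 0, 0, [], [], [], 0⟩ : Cert).colourOf [a, b, e, f] := by
  have h := colourOf_scale_five_aux
  simp only [List.all_eq_true, List.mem_range, Bool.or_eq_true, beq_iff_eq] at h
  exact (h a ha b hb e he f hf l hl).resolve_left (Nat.pos_iff_ne_zero.1 hl0)

theorem colourOf_eq {c : Cert} [Fact c.p.Prime] (hp : c.p = 3 ∨ c.p = 5) (a b e f a' b' e' f' : ℕ)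
    (ha : a < c.p) (hb : b < c.p) (he : e < c.p) (hf : f < c.p)
    (ha' : a' < c.p) (hb' : b' < c.p) (he' : e' < c.p) (hf' : f' < c.p)
    {l : ZMod c.p} (hl : l ≠ 0) (h1 : (a' : ZMod c.p) = l * a) (h2 : (b' : ZMod c.p) = l * b)
    (h3 : (e' : ZMod c.p) = l * e) (h4 : (f' : ZMod c.p) = l * f) :
    c.colourOf [a', b', e', f'] = c.colourOf [a, b, e, f] := by
  have key : ∀ x x' : ℕ, x' < c.p → (x' : ZMod c.p) = l * x → x' = l.val * x % c.p := by
    intro x x' hx' h
    have h' : (x' : ZMod c.p) = ((l.val * x : ℕ) : ZMod c.p) := by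
      rw [Nat.cast_mul, ZMod.natCast_zmod_val, h]
    rw [ZMod.natCast_eq_natCast_iff'] at h'
    rwa [Nat.mod_eq_of_lt hx'] at h'
  have hl0 : 0 < l.val := Nat.pos_of_ne_zero fun h => hl ((ZMod.val_eq_zero l).1 h)
  have hlp : l.val < c.p := ZMod.val_lt l
  rw [key a a' ha' h1, key b b' hb' h2, key e e' he' h3, key f f' hf' h4]
  generalize l.val = m at hl0 hlp
  rcases hp with hp | hp
  · rw [← colourOf_congr c (d := ⟨3, 0, false, 0, 0, [], [], [], 0⟩) hp.symm,
      ← colourOf_congr c (d := ⟨3, 0, false, 0, 0, [], [], [], 0⟩) hp.symm, hp]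
    exact colourOf_scale_three (hp ▸ ha) (hp ▸ hb) (hp ▸ he) (hp ▸ hf) (hp ▸ hlp) hl0
  · rw [← colourOf_congr c (d := ⟨5, 0, false, 0, 0, [], [], [], 0⟩) hp.symm,
      ← colourOf_congr c (d := ⟨5, 0, false, 0, 0, [], [], [], 0⟩) hp.symm, hp]
    exact colourOf_scale_five (hp ▸ ha) (hp ▸ hb) (hp ▸ he) (hp ▸ hf) (hp ▸ hlp) hl0

variable {c}

theorem Valid.hn (hc : c.Valid) : c.minus = true → 1 ≤ c.n := fun _ => hc.facts.2.2.2.1

theorem Valid.h3 (hc : c.Valid) : c.minus = true → (3 : ZMod c.p) = 0 ∧ 1 ≤ c.n := fun h => by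
  refine ⟨?_, hc.hn h⟩
  rcases hc.facts.2.2.2.2.1 with hp | ⟨-, hm⟩
  · rw [show (3 : ZMod c.p) = ((3 : ℕ) : ZMod c.p) from Nat.cast_ofNat.symm]
    exact (ZMod.natCast_eq_zero_iff 3 c.p).2 (hp ▸ dvd_rfl) |>.trans rfl
  · rw [h] at hm; exact absurd hm (by decide)

theorem Valid.two_ne (hc : c.Valid) : (2 : ZMod c.p) ≠ 0 := fun h => by
  have h' : ((2 : ℕ) : ZMod c.p) = 0 := by rw [Nat.cast_ofNat]; exact h
  have h'' := Nat.le_of_dvd two_pos ((ZMod.natCast_eq_zero_iff _ _).1 h')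
  rcases hc.facts.2.2.2.2.1 with hp | ⟨hp, -⟩ <;> omega

theorem Valid.not_neg_square (hc : c.Valid) (hp : c.p = 3) (a : ZMod c.p) : a ^ 2 ≠ -1 := by
  intro h
  have h1 : ((a.val * a.val + 1 : ℕ) : ZMod c.p) = 0 := by
    rw [Nat.cast_add, Nat.cast_mul, ZMod.natCast_zmod_val, Nat.cast_one, ← sq, h, neg_add_cancel]
  rw [ZMod.natCast_eq_zero_iff] at h1
  replace h1 : 3 ∣ a.val * a.val + 1 := by
    obtain ⟨k, hk⟩ := h1
    exact ⟨k, by rw [hk, hp]⟩
  have h2 : a.val < 3 := hp ▸ ZMod.val_lt a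
  interval_cases h3 : a.val <;> omega

/-- No word fixes both points up to a common scalar. -/
theorem Valid.eq_zero_of_fixes (hc : c.Valid) {w : ℕ} (hw : w < c.size) {l : ZMod c.p}
    (hx : l • op c.minus w c.xv = c.xv) (hy : l • op c.minus w c.yv = c.yv) (hl : l ≠ 0) : w = 0 := by
  have h := List.all_eq_true.1 hc.pauli w (List.mem_range.2 hw)
  simp only [Bool.or_eq_true, beq_iff_eq, List.all_eq_true, List.mem_range] at h
  refine h.resolve_right fun h' => ?_
  have hl0 : 0 < l.val := Nat.pos_of_ne_zero fun h0 => hl ((ZMod.val_eq_zero l).1 h0)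
  have hlp : l.val < c.p := ZMod.val_lt l
  have h'' := h' (l.val - 1) (by omega)
  simp only [Bool.not_eq_true', List.all_eq_false, List.mem_range, Bool.and_eq_true, beq_iff_eq] at h''
  obtain ⟨z, hz, hne⟩ := h''
  have key : ∀ (X : ℕ), l • op c.minus w (fun z : Fin (2 ^ c.n) => (vec X z : ZMod c.p)) =
      (fun z : Fin (2 ^ c.n) => (vec X z : ZMod c.p)) →
      vec X z < c.p → (l.val - 1 + 1) * c.app w (vec X) z % c.p = vec X z := by
    intro X h hX
    have h1 := congrFun h ⟨z, hz⟩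
    rw [Pi.smul_apply, smul_eq_mul, ← c.app_cast hc.hn w (vec X) ⟨z, hz⟩] at h1
    have h2 : (((l.val - 1 + 1) * c.app w (vec X) z % c.p : ℕ) : ZMod c.p) = (vec X z : ℕ) := by
      rw [ZMod.natCast_mod, Nat.cast_mul, Nat.sub_add_cancel hl0, ZMod.natCast_zmod_val]
      exact h1
    rw [ZMod.natCast_eq_natCast_iff', Nat.mod_mod, Nat.mod_eq_of_lt hX] at h2
    exact h2
  obtain ⟨hxb, hyb⟩ := hc.facts.2.2.2.2.2.2 z hz
  exact hne ⟨key c.x hx hxb, key c.y hy hyb⟩

/-- The orbit of the first point spans. -/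
theorem Valid.mem_span (hc : c.Valid) (f : c.Vec) :
    f ∈ Submodule.span (ZMod c.p) {u | ∃ w < c.size, u = op c.minus w c.xv} := by
  rw [show f = ∑ z, f z • delta z from by
    funext x; simp [delta_apply, Finset.sum_apply, Pi.smul_apply]]
  refine sum_mem fun z _ => Submodule.smul_mem _ _ ?_
  have hval : (delta z : c.Vec) = ∑ i ∈ Finset.range c.dim,
      (vec (c.inv.getD z 0) i : ZMod c.p) • op c.minus (c.words.getD i 0) c.xv := by
    funext x
    have h := List.all_eq_true.1 hc.span z (List.mem_range.2 z.2)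
    have h' := List.all_eq_true.1 h x (List.mem_range.2 x.2)
    rw [beq_iff_eq, foldl_add] at h'
    have h'' := congrArg (fun m : ℕ => (m : ZMod c.p)) h'
    simp only [ZMod.natCast_mod, Nat.cast_sum, Nat.cast_mul, c.app_cast hc.hn] at h''
    rw [delta_apply, Finset.sum_apply]
    simp only [Pi.smul_apply, smul_eq_mul]
    refine Eq.trans ?_ h''.symm
    by_cases hzx : (z : ℕ) = x
    · rw [if_pos (Fin.ext hzx.symm), if_pos hzx, Nat.cast_one]
    · rw [if_neg (fun h => hzx (congrArg Fin.val h).symm), if_neg hzx, Nat.cast_zero]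
  rw [hval]
  refine sum_mem fun i _ => Submodule.smul_mem _ _ (Submodule.subset_span ⟨_, ?_, rfl⟩)
  by_cases hi : i < c.words.length
  · rw [List.getD_eq_getElem _ _ hi]; exact hc.facts.2.2.2.2.2.1 _ (List.getElem_mem hi)
  · rw [List.getD_eq_default _ _ (by omega)]; exact c.size_pos

theorem Valid.xv_ne (hc : c.Valid) : c.xv ≠ 0 := fun h => by
  have h1 := hc.mem_span (delta ⟨0, Nat.two_pow_pos _⟩)
  have h2 : Submodule.span (ZMod c.p) {u : c.Vec | ∃ w < c.size, u = op c.minus w c.xv} ≤ ⊥ := by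
    refine Submodule.span_le.2 ?_
    rintro u ⟨w, -, rfl⟩
    simp [h]
  have h3 := congrFun (Submodule.mem_bot _ |>.1 (h2 h1)) ⟨0, Nat.two_pow_pos _⟩
  simp [delta_apply] at h3

theorem app_lt (w : ℕ) (g : ℕ → ℕ) (z : ℕ) : c.app w g z < c.p := by
  unfold app
  simp only
  split <;> exact Nat.mod_lt _ hpF.out.pos

/-- A semisimilitude fixing both points induces a map meeting the leaf criterion. -/
theorem Valid.leafSpec (hc : c.Valid) (g : c.Vec →ₗ[ZMod c.p] c.Vec) (hg : Function.Bijective g)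
    (T : ℕ → ℕ) (hlt : ∀ w < c.size, T w < c.size)
    (hxor : ∀ v < c.size, ∀ w < c.size, T (v ^^^ w) = T v ^^^ T w)
    (hom : ∀ v < c.size, ∀ w < c.size, c.om (T v) (T w) = c.om v w) (ζ : ℕ → ZMod c.p)
    (hsq : ∀ w < c.size, ζ w ^ 2 = 1 ∨ ζ w ^ 2 = -1)
    (hrel : ∀ w < c.size, ∀ f, g (op c.minus w f) = ζ w • op c.minus (T w) (g f))
    (hx : g c.xv = c.xv) (hy : g c.yv = c.yv) : c.LeafSpec T := by
  obtain ⟨hbas, hlen, h5, h1n, hp, -, hxy⟩ := hc.facts
  have hsize := c.size_eq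
  let β : c.Vec →ₗ[ZMod c.p] c.Vec →ₗ[ZMod c.p] ZMod c.p := (frm c.minus).compl₁₂ g g
  have hβ : ∀ f h, β f h = frm c.minus (g f) (g h) := fun f h => rfl
  have hone : (1 : ZMod c.p) ≠ 0 := one_ne_zero
  have hnz : ∃ u v : c.Vec, frm c.minus u v ≠ 0 := by
    cases hm : c.minus with
    | false =>
      refine ⟨delta ⟨0, Nat.two_pow_pos _⟩, delta ⟨0, Nat.two_pow_pos _⟩, ?_⟩
      rw [frm_plus_delta, if_pos rfl]; exact hone
    | true =>
      refine ⟨delta ⟨0, Nat.two_pow_pos _⟩, delta ⟨1, Nat.one_lt_two_pow (by omega)⟩, ?_⟩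
      rw [frm_minus_delta h1n]
      simpa using hone
  have hne : β ≠ 0 := fun h => by
    obtain ⟨u, v, huv⟩ := hnz
    obtain ⟨u', rfl⟩ := hg.2 u
    obtain ⟨v', rfl⟩ := hg.2 v
    rw [← hβ, h] at huv
    exact huv rfl
  have hinv : ∀ w < 2 ^ (2 * c.n), ∀ f h,
      β (op c.minus w f) (op c.minus w h) = ζ w ^ 2 * β f h := by
    intro w hw f h
    rw [hβ, hβ, hrel w (hsize ▸ hw), hrel w (hsize ▸ hw)]
    simp only [map_smul, LinearMap.smul_apply, smul_eq_mul, frm_op c.minus hc.h3]; ring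
  obtain ⟨lam, hlam, u, hu, hu3, hcl⟩ : ∃ lam : ZMod c.p, lam ≠ 0 ∧ ∃ u < c.size,
      (c.p = 3 → u = 0) ∧ ∀ f h, β f h = lam * frm c.minus (op c.minus u f) h := by
    have hall : c.p = 3 → ∀ w < 2 ^ (2 * c.n), ζ w ^ 2 = 1 := fun h w hw =>
      (hsq w (hsize ▸ hw)).resolve_right (hc.not_neg_square h _)
    cases hm : c.minus with
    | false =>
      obtain ⟨lam, h1, u, h2, h3', h4⟩ := classify_plus (by omega) hc.two_ne (fun w => ζ w ^ 2)
        (fun w hw => hsq w (hsize ▸ hw)) β hne (hm ▸ hinv)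
      exact ⟨lam, h1, u, hsize ▸ h2, fun h => h3' (hall h), h4⟩
    | true =>
      have h3eq : c.p = 3 := by
        rcases hp with hp | ⟨-, hm'⟩
        · exact hp
        · rw [hm] at hm'; exact absurd hm' (by decide)
      obtain ⟨lam, h1, h4⟩ := classify_minus (by omega) h1n (hc.h3 hm).1 hc.two_ne β hne
        (fun w hw f h => by
          have := hinv w hw f h
          rw [hm, hall h3eq w hw, one_mul] at this
          exact this)
      refine ⟨lam, h1, 0, c.size_pos, fun _ => rfl, fun f h => ?_⟩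
      rw [h4, op_zero _ _ (fun _ => h1n)]
  refine c.leaf_of_search hc.search hc.bas (List.all_eq_true.2 fun d hd => by simpa using hbas d hd)
    hlen (u := u) ⟨hlt, hxor, hom, fun w hw => ?_, hu3, hu⟩
  have hTw := hlt w hw
  have huw := c.xor_lt hu hw
  have htab : ∀ v < c.size, c.colour v = c.colourOf (c.quad v) := fun v hv => by
    simpa using List.all_eq_true.1 hc.table v (List.mem_range.2 hv)
  rw [htab _ hTw, htab _ huw]
  obtain ⟨s, hs, hop⟩ := op_op (F := ZMod c.p) c.minus hc.h3 (by omega) (hsize ▸ hu) (hsize ▸ hw)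
  have hs0 : s ≠ 0 := by rcases hs with rfl | rfl <;> simp
  have hζ0 : ζ w ≠ 0 := fun h => by
    rcases hsq w hw with h' | h' <;> rw [h] at h' <;> simp at h'
  have hlt4 : ∀ a b : ℕ → ℕ, c.form a b < c.p := fun a b => Nat.mod_lt _ hpF.out.pos
  have hcast : ∀ (v : ℕ) (X Y : ℕ), (c.form (c.app v (vec X)) (vec Y) : ZMod c.p) =
      frm c.minus (op c.minus v fun z : Fin (2 ^ c.n) => (vec X z : ZMod c.p))
        (fun z : Fin (2 ^ c.n) => (vec Y z : ZMod c.p)) := fun v X Y => by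
    rw [c.form_cast hc.hn]
    congr 2
    funext z
    exact c.app_cast hc.hn v (vec X) z
  have key : ∀ (X Y : ℕ), g (fun z : Fin (2 ^ c.n) => (vec X z : ZMod c.p)) =
        (fun z : Fin (2 ^ c.n) => (vec X z : ZMod c.p)) →
      g (fun z : Fin (2 ^ c.n) => (vec Y z : ZMod c.p)) =
        (fun z : Fin (2 ^ c.n) => (vec Y z : ZMod c.p)) →
      (c.form (c.app (T w) (vec X)) (vec Y) : ZMod c.p) =
        ((ζ w)⁻¹ * lam * s) * (c.form (c.app (u ^^^ w) (vec X)) (vec Y) : ZMod c.p) := by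
    intro X Y hX hY
    rw [hcast, hcast]
    have h := hcl (op c.minus w fun z : Fin (2 ^ c.n) => (vec X z : ZMod c.p))
      (fun z : Fin (2 ^ c.n) => (vec Y z : ZMod c.p))
    rw [hop, map_smul, LinearMap.smul_apply, hβ, hrel w hw, hX, hY, map_smul,
      LinearMap.smul_apply] at h
    simp only [smul_eq_mul] at h
    field_simp
    linear_combination h
  refine c.colourOf_eq (hp.imp id And.left) _ _ _ _ _ _ _ _ (hlt4 _ _) (hlt4 _ _) (hlt4 _ _) (hlt4 _ _)
    (hlt4 _ _) (hlt4 _ _) (hlt4 _ _) (hlt4 _ _) (l := (ζ w)⁻¹ * lam * s)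
    (mul_ne_zero (mul_ne_zero (inv_ne_zero hζ0) hlam) hs0) (key _ _ hx hx) (key _ _ hx hy)
    (key _ _ hy hx) (key _ _ hy hy)

end Cert

end Cfsg.Agent.CoprimeBase.Small
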