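import Cfsg.Agent.Lib.BaseThree.Perp
import Cfsg.Agent.Lib.CoprimeBase.Small.Model
import Mathlib.Algebra.BigOperators.Group.Finset.Piecewise

/-!
# Words for a symplectic two-group with a normalised quadratic form

* `xor_induction`: induction over bitwise sums.
* `exists_words`: a bijection of words with the group carrying sums to products, the pairing of words
  to the pairing, and with normalised values of the quadratic form on the unit words.
-/

set_option autoImplicit false
set_option linter.style.haveILetI false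

namespace Cfsg.Agent.CoprimeBase.Small

open OddBaseTwo BaseThree

universe u v

theorem xor_induction : ∀ {m : ℕ} {P : ℕ → Prop}, P 0 → (∀ i < m, P (2 ^ i)) →
    (∀ v < 2 ^ m, ∀ w < 2 ^ m, P v → P w → P (v ^^^ w)) → ∀ w < 2 ^ m, P w
  | 0, P, h0, _, _, w, hw => by
    rw [pow_zero, Nat.lt_one_iff] at hw
    rwa [hw]
  | m + 1, P, h0, h1, hx, w, hw => by
    have hlt : 2 ^ m < 2 ^ (m + 1) := Nat.pow_lt_pow_right one_lt_two (Nat.lt_succ_self m)
    have ih : ∀ w < 2 ^ m, P w := xor_induction h0 (fun i hi => h1 i (hi.trans (Nat.lt_succ_self m)))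
      fun v hv w hw => hx v (hv.trans hlt) w (hw.trans hlt)
    rcases lt_or_ge w (2 ^ m) with h | h
    · exact ih w h
    have h2 : w ^^^ 2 ^ m < 2 ^ m := by
      refine Nat.lt_pow_two_of_testBit _ fun i hi => ?_
      rw [Nat.testBit_xor, Nat.testBit_two_pow]
      rcases eq_or_lt_of_le hi with rfl | hi'
      · rw [Nat.testBit_eq_decide_div_mod_eq]
        have : w / 2 ^ m = 1 := by
          refine Nat.div_eq_of_lt_le (by rw [one_mul]; exact h) ?_
          rw [pow_succ] at hw; omega
        simp [this]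
      · rw [Nat.testBit_lt_two_pow (hw.trans_le (Nat.pow_le_pow_right two_pos (by omega)))]
        simp [Nat.ne_of_lt hi']
    have h3 := hx (2 ^ m) hlt _ (h2.trans hlt) (h1 m (Nat.lt_succ_self m)) (ih _ h2)
    rwa [Nat.xor_comm w, ← Nat.xor_assoc, Nat.xor_self, Nat.zero_xor] at h3

variable {W : Type u} [CommGroup W] {K : Type v} [Field K] (f : W →* W →* Kˣ) (q : W → Kˣ)

theorem pair_sign (hexp : ∀ x : W, x ^ 2 = 1) (x y : W) : f x y = 1 ∨ f x y = -1 := by
  have h : ((f x y : Kˣ) : K) ^ 2 = 1 := by
    rw [← Units.val_pow_eq_pow_val, ← map_pow, hexp, map_one, Units.val_one]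
  rcases sq_eq_one_iff.1 h with h | h
  · exact Or.inl (Units.ext h)
  · exact Or.inr (Units.ext (by rw [h, Units.val_neg, Units.val_one]))

theorem pair_comm (hexp : ∀ x : W, x ^ 2 = 1) (halt : ∀ x, f x x = 1) (x y : W) : f x y = f y x := by
  have h := pairing_skew f halt x y
  rcases pair_sign f hexp x y with h1 | h1 <;> rcases pair_sign f hexp y x with h2 | h2 <;>
    rw [h1, h2] <;> rw [h1, h2] at h <;> first | rfl | (simp at h; simp [h])

theorem mul_self_one (hexp : ∀ x : W, x ^ 2 = 1) (x : W) : x * x = 1 := by rw [← sq, hexp]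

/-- A symplectic basis with normalised values of `q`. -/
structure IsSymp (S : Subgroup W) (n : ℕ) (minus : Bool) (a b : ℕ → W) : Prop where
  mema : ∀ i < n, a i ∈ S
  memb : ∀ i < n, b i ∈ S
  card : Nat.card S = 4 ^ n
  pos : minus = true → 1 ≤ n
  faa : ∀ i < n, ∀ j < n, f (a i) (a j) = 1
  fbb : ∀ i < n, ∀ j < n, f (b i) (b j) = 1
  fab : ∀ i < n, ∀ j < n, f (a i) (b j) = if i = j then -1 else 1
  qa : ∀ i < n, q (a i) = if minus = true ∧ i = 0 then -1 else 1
  qb : ∀ i < n, q (b i) = if minus = true ∧ i = 0 then -1 else 1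

variable [Finite W]

theorem exists_symp (hexp : ∀ x : W, x ^ 2 = 1) (halt : ∀ x, f x x = 1) (h21 : (-1 : Kˣ) ≠ 1)
    (hqv : ∀ x, q x = 1 ∨ q x = -1)
    (hq1 : ∀ a d, q a = -1 → q d = -1 → f a d = 1 → q (a * d) = 1)
    (hq2 : ∀ c h, q c = 1 → q h = -1 → f c h = -1 → q (h * c) = 1) :
    ∀ (N : ℕ) (S : Subgroup W), Nat.card S ≤ N → (∀ x ∈ S, (∀ y ∈ S, f x y = 1) → x = 1) →
      ∃ (n : ℕ) (minus : Bool) (a b : ℕ → W), IsSymp f q S n minus a b := by
  intro N
  induction N with
  | zero => intro S hS; exact absurd hS (by simp [Nat.card_pos.ne'])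
  | succ N ih =>
    intro S hS hnd
    by_cases hS1 : S = ⊥
    · exact ⟨0, false, fun _ => 1, fun _ => 1, ⟨by omega, by omega, by rw [hS1, Subgroup.card_bot, pow_zero],
        by simp, by omega, by omega, by omega, by omega, by omega⟩⟩
    have hmate : ∀ c ∈ S, c ≠ 1 → ∃ h ∈ S, f c h = -1 := by
      intro c hc hc1
      by_contra! hno
      exact hc1 (hnd c hc fun y hy => (pair_sign f hexp c y).resolve_right (hno y hy))
    have hsymm := pair_comm f hexp halt
    -- splitting off a hyperbolic pair
    have hsplit : ∀ c ∈ S, ∀ h ∈ S, f c h = -1 → ∃ T : Subgroup W, T ≤ S ∧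
        (∀ t ∈ T, f t c = 1 ∧ f t h = 1) ∧ (∀ t ∈ S, f t c = 1 → f t h = 1 → t ∈ T) ∧
        Nat.card S = 4 * Nat.card T ∧ ∀ x ∈ T, (∀ y ∈ T, f x y = 1) → x = 1 := by
      intro c hc h hh hch
      let T : Subgroup W := S ⊓ ((f.flip c).ker ⊓ (f.flip h).ker)
      have hmem : ∀ t, t ∈ T ↔ t ∈ S ∧ f t c = 1 ∧ f t h = 1 := fun t => Iff.rfl
      have hhc : f h c = -1 := by rw [hsymm, hch]
      let G : (Bool × Bool) × T → S := fun x =>
        ⟨((if x.1.1 then c else 1) * (if x.1.2 then h else 1)) * (x.2 : W),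
          mul_mem (mul_mem (by split_ifs <;> first | exact hc | exact one_mem _)
            (by split_ifs <;> first | exact hh | exact one_mem _)) x.2.2.1⟩
      have hGc : ∀ x, f (G x : W) c = if x.1.2 then -1 else 1 := by
        rintro ⟨⟨i, j⟩, t, ht⟩
        cases i <;> cases j <;> simp [G, halt, hhc, ((hmem t).1 ht).2.1]
      have hGh : ∀ x, f (G x : W) h = if x.1.1 then -1 else 1 := by
        rintro ⟨⟨i, j⟩, t, ht⟩
        cases i <;> cases j <;> simp [G, halt, hch, ((hmem t).1 ht).2.2]
      have hbij : Function.Bijective G := by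
        constructor
        · rintro ⟨⟨i, j⟩, t⟩ ⟨⟨i', j'⟩, t'⟩ he
          have hij : i = i' ∧ j = j' := by
            have e1 := hGc ((i, j), t)
            have e2 := hGh ((i, j), t)
            rw [he, hGc] at e1
            rw [he, hGh] at e2
            constructor
            · cases i <;> cases i' <;> simp at e2 ⊢ <;> first | exact h21 e2 | exact h21 e2.symm
            · cases j <;> cases j' <;> simp at e1 ⊢ <;> first | exact h21 e1 | exact h21 e1.symm
          obtain ⟨rfl, rfl⟩ := hij
          exact Prod.ext rfl (Subtype.ext (mul_left_cancel (congrArg Subtype.val he)))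
        · rintro ⟨y, hy⟩
          obtain ⟨i, hi⟩ : ∃ i : Bool, f y h = if i then -1 else 1 := by
            rcases pair_sign f hexp y h with e | e
            · exact ⟨false, e⟩
            · exact ⟨true, e⟩
          obtain ⟨j, hj⟩ : ∃ j : Bool, f y c = if j then -1 else 1 := by
            rcases pair_sign f hexp y c with e | e
            · exact ⟨false, e⟩
            · exact ⟨true, e⟩
          set u := (if i then c else 1) * (if j then h else 1) with hu
          have huS : u ∈ S := mul_mem (by split_ifs <;> first | exact hc | exact one_mem _)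
            (by split_ifs <;> first | exact hh | exact one_mem _)
          have huT : u * y ∈ T := by
            refine (hmem _).2 ⟨mul_mem huS hy, ?_, ?_⟩
            · cases i <;> cases j <;> simp [hu, halt, hhc, hj]
            · cases i <;> cases j <;> simp [hu, halt, hch, hi]
          refine ⟨((i, j), ⟨u * y, huT⟩), Subtype.ext ?_⟩
          show u * (u * y) = y
          rw [← mul_assoc, mul_self_one hexp, one_mul]
      refine ⟨T, inf_le_left, fun t ht => ((hmem t).1 ht).2, fun t h1 h2 h3 => (hmem t).2 ⟨h1, h2, h3⟩,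
        ?_, fun x hx hxT => ?_⟩
      · rw [← Nat.card_congr (Equiv.ofBijective G hbij), Nat.card_prod, Nat.card_prod]
        simp
      · refine hnd x hx.1 fun y hy => ?_
        obtain ⟨⟨⟨i, j⟩, t⟩, hxy⟩ := hbij.2 ⟨y, hy⟩
        rw [show y = (G ((i, j), t) : W) from congrArg Subtype.val hxy.symm]
        cases i <;> cases j <;> simp [G, ((hmem x).1 hx).2.1, ((hmem x).1 hx).2.2, hxT t t.2]
    by_cases hsing : ∃ c ∈ S, c ≠ 1 ∧ q c = 1
    · obtain ⟨c, hc, hc1, hqc⟩ := hsing
      obtain ⟨h, hh, hch, hqh⟩ : ∃ h ∈ S, f c h = -1 ∧ q h = 1 := by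
        obtain ⟨h, hh, hch⟩ := hmate c hc hc1
        rcases hqv h with e | e
        · exact ⟨h, hh, hch, e⟩
        · exact ⟨h * c, mul_mem hh hc, by rw [map_mul, hch, halt, mul_one], hq2 c h hqc e hch⟩
      obtain ⟨T, hTS, hTc, -, hcard, hTnd⟩ := hsplit c hc h hh hch
      have hTlt : Nat.card T ≤ N := by have := (Nat.card_pos : 0 < Nat.card T); omega
      obtain ⟨n, minus, a, b, hs⟩ := ih T hTlt hTnd
      refine ⟨n + 1, minus, fun i => if i = n then c else a i, fun i => if i = n then h else b i,
        ⟨fun i hi => ?_, fun i hi => ?_, by rw [hcard, hs.card, pow_succ, mul_comm],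
          fun hm => Nat.le_succ_of_le (hs.pos hm), fun i hi j hj => ?_, fun i hi j hj => ?_,
          fun i hi j hj => ?_, fun i hi => ?_, fun i hi => ?_⟩⟩
      · split_ifs with e
        exacts [hc, hTS (hs.mema i (by omega))]
      · split_ifs with e
        exacts [hh, hTS (hs.memb i (by omega))]
      · split_ifs with e e' e'
        · exact halt c
        · rw [hsymm]; exact (hTc _ (hs.mema j (by omega))).1
        · exact (hTc _ (hs.mema i (by omega))).1
        · exact hs.faa i (by omega) j (by omega)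
      · split_ifs with e e' e'
        · exact halt h
        · rw [hsymm]; exact (hTc _ (hs.memb j (by omega))).2
        · exact (hTc _ (hs.memb i (by omega))).2
        · exact hs.fbb i (by omega) j (by omega)
      · by_cases e : i = n <;> by_cases e' : j = n
        · rw [if_pos e, if_pos e', if_pos (e.trans e'.symm), hch]
        · rw [if_pos e, if_neg e', if_neg (by omega), hsymm]
          exact (hTc _ (hs.memb j (by omega))).1
        · rw [if_neg e, if_pos e', if_neg (by omega)]
          exact (hTc _ (hs.mema i (by omega))).2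
        · rw [if_neg e, if_neg e']
          exact hs.fab i (by omega) j (by omega)
      · split_ifs with e e' e'
        · exact absurd e (by have := hs.pos e'.1; omega)
        · exact hqc
        · rw [hs.qa i (by omega), if_pos e']
        · rw [hs.qa i (by omega), if_neg e']
      · split_ifs with e e' e'
        · exact absurd e (by have := hs.pos e'.1; omega)
        · exact hqh
        · rw [hs.qb i (by omega), if_pos e']
        · rw [hs.qb i (by omega), if_neg e']
    push Not at hsing
    have hq : ∀ x ∈ S, x ≠ 1 → q x = -1 := fun x hx h1 => (hqv x).resolve_left (hsing x hx h1)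
    obtain ⟨⟨a, ha⟩, ha1⟩ := (Subgroup.ne_bot_iff_exists_ne_one).1 hS1
    have ha1' : a ≠ 1 := fun e => ha1 (Subtype.ext e)
    obtain ⟨b, hb, hab⟩ := hmate a ha ha1'
    have hb1 : b ≠ 1 := fun e => h21 (by rw [← hab, e, map_one])
    obtain ⟨T, hTS, hTc, -, hcard, -⟩ := hsplit a ha b hb hab
    have hT : Nat.card T = 1 := by
      refine Subgroup.card_eq_one.2 ((Subgroup.eq_bot_iff_forall T).2 fun d hd => ?_)
      by_contra hd1
      have h1 := hq1 a d (hq a ha ha1') (hq d (hTS hd) hd1) (by rw [hsymm]; exact (hTc d hd).1)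
      refine hsing (a * d) (mul_mem ha (hTS hd)) (fun e => ?_) h1
      have had : a = d := by
        rw [← mul_one a, ← mul_self_one hexp d, ← mul_assoc, e, one_mul]
      exact h21 (by rw [← hab, had, (hTc d hd).2])
    refine ⟨1, true, fun _ => a, fun _ => b, ⟨fun _ _ => ha, fun _ _ => hb, by rw [hcard, hT]; norm_num,
      fun _ => le_rfl, fun _ _ _ _ => halt a, fun _ _ _ _ => halt b, fun i hi j hj => ?_,
      fun i hi => ?_, fun i hi => ?_⟩⟩
    · rw [hab, if_pos (by omega)]
    · rw [hq a ha ha1', if_pos ⟨rfl, by omega⟩]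
    · rw [hq b hb hb1, if_pos ⟨rfl, by omega⟩]

/-- The product of the chosen elements at the digits of a word. -/
def iota {W : Type u} [CommGroup W] (e : ℕ → W) (m w : ℕ) : W :=
  ∏ i ∈ Finset.range m, if w.testBit i then e i else 1

theorem iota_xor {W : Type u} [CommGroup W] (hexp : ∀ x : W, x ^ 2 = 1) (e : ℕ → W) (m v w : ℕ) :
    iota e m (v ^^^ w) = iota e m v * iota e m w := by
  rw [iota, iota, iota, ← Finset.prod_mul_distrib]
  refine Finset.prod_congr rfl fun i _ => ?_
  rw [Nat.testBit_xor]
  cases v.testBit i <;> cases w.testBit i <;> simp [mul_self_one hexp]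

theorem iota_two_pow {W : Type u} [CommGroup W] (e : ℕ → W) {m i : ℕ} (hi : i < m) :
    iota e m (2 ^ i) = e i := by
  rw [iota, Finset.prod_eq_single i (fun j _ hj => by simp [Ne.symm hj])
    (fun h => absurd (Finset.mem_range.2 hi) h)]
  simp

/-- The pairing of words. -/
def omn (n v w : ℕ) : ℕ :=
  (par ((v &&& (2 ^ n - 1)) &&& (w >>> n)) + par ((w &&& (2 ^ n - 1)) &&& (v >>> n))) % 2

theorem omn_comm (n v w : ℕ) : omn n v w = omn n w v := by
  unfold omn; rw [add_comm]

theorem omn_xor {n v v' w : ℕ} (hn : n ≤ 6) : omn n (v ^^^ v') w = (omn n v w + omn n v' w) % 2 := by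
  have hlt : ∀ x y : ℕ, (x &&& (2 ^ n - 1)) &&& y < 64 := fun x y =>
    lt_of_le_of_lt (Nat.and_le_left.trans Nat.and_le_right)
      (lt_of_lt_of_le (Nat.sub_lt (Nat.two_pow_pos n) one_pos) (Nat.pow_le_pow_right two_pos hn))
  unfold omn
  rw [shr_xor, Nat.and_xor_distrib_right, Nat.and_xor_distrib_right,
    par_xor (hlt _ _) (hlt _ _), Nat.and_xor_distrib_left, par_xor (hlt _ _) (hlt _ _)]
  omega

theorem omn_basis_aux : ((List.range 7).all fun n => (List.range (2 * n)).all fun i =>
    (List.range (2 * n)).all fun j =>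
      omn n (2 ^ i) (2 ^ j) == if i + n = j || j + n = i then 1 else 0) = true := by decide +kernel

theorem omn_basis {n i j : ℕ} (hn : n ≤ 6) (hi : i < 2 * n) (hj : j < 2 * n) :
    omn n (2 ^ i) (2 ^ j) = if i + n = j ∨ j + n = i then 1 else 0 := by
  have h := omn_basis_aux
  simp only [List.all_eq_true, List.mem_range, beq_iff_eq] at h
  rw [h n (by omega) i hi j hj]
  simp

/-- A sign for a parity. -/
def sgnU (K : Type v) [Field K] (x : ℕ) : Kˣ := if x = 1 then -1 else 1

theorem sgnU_add {x y : ℕ} (hx : x < 2) (hy : y < 2) :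
    sgnU K ((x + y) % 2) = sgnU K x * sgnU K y := by
  interval_cases x <;> interval_cases y <;> simp [sgnU]

/-- A correspondence of words and group elements. -/
structure Words (n : ℕ) (minus : Bool) (ι : ℕ → W) : Prop where
  card : Nat.card W = 4 ^ n
  pos : minus = true → 1 ≤ n
  le : n ≤ 6
  xor : ∀ v w, ι (v ^^^ w) = ι v * ι w
  inj : ∀ v < 2 ^ (2 * n), ∀ w < 2 ^ (2 * n), ι v = ι w → v = w
  surj : ∀ x : W, ∃ w < 2 ^ (2 * n), ι w = x
  form : ∀ v < 2 ^ (2 * n), ∀ w < 2 ^ (2 * n), f (ι v) (ι w) = sgnU K (omn n v w)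
  qa : ∀ i < n, q (ι (2 ^ i)) = if minus = true ∧ i = 0 then -1 else 1
  qb : ∀ i < n, q (ι (2 ^ (n + i))) = if minus = true ∧ i = 0 then -1 else 1

theorem exists_words (hexp : ∀ x : W, x ^ 2 = 1) (halt : ∀ x, f x x = 1)
    (hnd : ∀ x, (∀ y, f x y = 1) → x = 1) (h21 : (-1 : Kˣ) ≠ 1)
    (hqv : ∀ x, q x = 1 ∨ q x = -1)
    (hq1 : ∀ a d, q a = -1 → q d = -1 → f a d = 1 → q (a * d) = 1)
    (hq2 : ∀ c h, q c = 1 → q h = -1 → f c h = -1 → q (h * c) = 1)
    (hsize : Nat.card W ≤ 4 ^ 6) :
    ∃ (n : ℕ) (minus : Bool) (ι : ℕ → W), Words f q n minus ι := by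
  obtain ⟨n, minus, a, b, hs⟩ := exists_symp f q hexp halt h21 hqv hq1 hq2 (Nat.card W) ⊤
    (Subgroup.card_top).le (fun x _ hx => hnd x fun y => hx y trivial)
  have hcard : Nat.card W = 4 ^ n := by rw [← Subgroup.card_top, hs.card]
  have hn : n ≤ 6 := (Nat.pow_le_pow_iff_right (by norm_num : 1 < 4)).1 (hcard ▸ hsize)
  set e : ℕ → W := fun i => if i < n then a i else b (i - n) with he
  set ι : ℕ → W := iota e (2 * n) with hι
  have hxor : ∀ v w, ι (v ^^^ w) = ι v * ι w := iota_xor hexp e (2 * n)
  have h0 : ι 0 = 1 := by simp [hι, iota]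
  have hbase : ∀ i < 2 * n, ∀ j < 2 * n, f (e i) (e j) = sgnU K (omn n (2 ^ i) (2 ^ j)) := by
    intro i hi j hj
    rw [omn_basis hn hi hj]
    simp only [he]
    by_cases hin : i < n <;> by_cases hjn : j < n
    · rw [if_pos hin, if_pos hjn, hs.faa i hin j hjn, if_neg (by omega)]; rfl
    · rw [if_pos hin, if_neg hjn, hs.fab i hin (j - n) (by omega)]
      by_cases h : i = j - n
      · rw [if_pos h, if_pos (by omega)]; rfl
      · rw [if_neg h, if_neg (by omega)]; rfl
    · rw [if_neg hin, if_pos hjn, pair_comm f hexp halt, hs.fab j hjn (i - n) (by omega)]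
      by_cases h : j = i - n
      · rw [if_pos h, if_pos (by omega)]; rfl
      · rw [if_neg h, if_neg (by omega)]; rfl
    · rw [if_neg hin, if_neg hjn, hs.fbb (i - n) (by omega) (j - n) (by omega), if_neg (by omega)]
      rfl
  have hlt2 : ∀ v w, omn n v w < 2 := fun v w => Nat.mod_lt _ two_pos
  have hform : ∀ v < 2 ^ (2 * n), ∀ w < 2 ^ (2 * n), f (ι v) (ι w) = sgnU K (omn n v w) := by
    refine xor_induction (P := fun v => ∀ w < 2 ^ (2 * n), f (ι v) (ι w) = sgnU K (omn n v w)) ?_ ?_ ?_
    · intro w _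
      rw [h0, map_one, MonoidHom.one_apply]
      simp [omn, sgnU, par_zero]
    · intro i hi
      refine xor_induction (P := fun w => f (ι (2 ^ i)) (ι w) = sgnU K (omn n (2 ^ i) w)) ?_ ?_ ?_
      · rw [h0, map_one]; simp [omn, sgnU, par_zero]
      · intro j hj
        rw [hι, iota_two_pow e hi, iota_two_pow e hj]
        exact hbase i hi j hj
      · intro v _ w _ hv hw
        rw [hxor, map_mul, hv, hw, omn_comm n _ (v ^^^ w), omn_xor hn, sgnU_add (hlt2 _ _) (hlt2 _ _),
          omn_comm n v, omn_comm n w]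
    · intro v _ v' _ hv hv' w hw
      rw [hxor, map_mul, MonoidHom.mul_apply, hv w hw, hv' w hw, omn_xor hn,
        sgnU_add (hlt2 _ _) (hlt2 _ _)]
  have hinj : ∀ v < 2 ^ (2 * n), ∀ w < 2 ^ (2 * n), ι v = ι w → v = w := by
    have key : ∀ u < 2 ^ (2 * n), ι u = 1 → u = 0 := by
      intro u hu hu1
      have hz : ∀ w < 2 ^ (2 * n), omn n u w = 0 := fun w hw => by
        have h := hform u hu w hw
        rw [hu1, map_one, MonoidHom.one_apply] at h
        by_contra h1
        rw [sgnU, if_pos (by have := hlt2 u w; omega)] at h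
        exact h21 h.symm
      refine Nat.eq_of_testBit_eq fun i => ?_
      rw [Nat.zero_testBit]
      by_cases hi : i < 2 * n
      swap
      · exact Nat.testBit_lt_two_pow (hu.trans_le (Nat.pow_le_pow_right two_pos (by omega)))
      -- pair with the dual unit word
      set j := if i < n then i + n else i - n with hj
      have hj2 : j < 2 * n := by rw [hj]; split_ifs <;> omega
      have h1 := hz (2 ^ j) (Nat.pow_lt_pow_right one_lt_two hj2)
      have h2 : ∀ v < 2 ^ (2 * n), omn n v (2 ^ j) = (v.testBit i).toNat := by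
        refine xor_induction (P := fun v => omn n v (2 ^ j) = (v.testBit i).toNat) ?_ ?_ ?_
        · simp [omn, par_zero]
        · intro k hk
          rw [omn_basis hn hk hj2, Nat.testBit_two_pow]
          by_cases h : k = i
          · subst h
            rw [if_pos (by rw [hj]; split_ifs <;> omega)]
            simp
          · rw [if_neg (by rw [hj]; split_ifs <;> omega)]
            simp [h]
        · intro v _ v' _ hv hv'
          rw [omn_xor hn, hv, hv', Nat.testBit_xor]
          cases v.testBit i <;> cases v'.testBit i <;> rfl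
      rw [h2 u hu] at h1
      cases hb : u.testBit i
      · rfl
      · rw [hb] at h1; exact absurd h1 (by simp)
    intro v hv w hw hvw
    have h := key (v ^^^ w) (Nat.xor_lt_two_pow hv hw) (by rw [hxor, hvw, mul_self_one hexp])
    exact Nat.xor_eq_zero_iff.1 h
  refine ⟨n, minus, ι, hcard, hs.pos, hn, hxor, hinj, ?_, hform, fun i hi => ?_, fun i hi => ?_⟩
  · have hbij : Function.Bijective fun w : Fin (2 ^ (2 * n)) => ι w := by
      rw [Nat.bijective_iff_injective_and_card]
      refine ⟨fun v w h => Fin.ext (hinj v v.2 w w.2 h), ?_⟩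
      rw [Nat.card_fin, hcard, pow_mul]; norm_num
    exact fun x => by obtain ⟨w, hw⟩ := hbij.2 x; exact ⟨w, w.2, hw⟩
  · rw [hι, iota_two_pow e (by omega), show e i = a i from if_pos hi]
    exact hs.qa i hi
  · rw [hι, iota_two_pow e (by omega), show e (n + i) = b (n + i - n) from if_neg (by omega),
      Nat.add_sub_cancel_left]
    exact hs.qb i hi

end Cfsg.Agent.CoprimeBase.Small
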